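/-
Sylow collectors for the multiplier of the Held group, read on the certified 2058 points.
-/
import Cfsg.Agent.Lib.HeCent.Action
import Cfsg.Agent.Lib.StemSylow.CollectP

set_option autoImplicit false

namespace CfsgLib.HeMult

open CfsgLib.CosetEnum CfsgLib.HeCent CfsgLib.StemSylow
open scoped Classical

universe u

theorem el_append (v w : List ℕ) : el (v ++ w) = el w * el v := by
  simp [el, List.reverse_append, List.map_append, List.prod_append]

/-- The word of a product of numbered elements. -/
def cw (gw : List (List ℕ)) : List ℕ → List ℕ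
  | [] => []
  | a :: l => cw gw l ++ gw.getD a []

/-- The numbered elements. -/
noncomputable def gE (gw : List (List ℕ)) (k : ℕ) : presHe.Grp := el (gw.getD k [])

theorem el_cw (gw : List (List ℕ)) (l : List ℕ) : el (cw gw l) = Collect.ev (gE gw) l := by
  induction l with
  | nil => rfl
  | cons a l ih => rw [cw, el_append, ih, Collect.ev_cons]; rfl

/-- The check that two words give the same element. -/
noncomputable def sameW (v w : List ℕ) : Bool :=
  okWord v && okWord w && six.all fun b => Nat.beq (run1 v b) (run1 w b)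

theorem el_eq_of_sameW {v w : List ℕ} (h : sameW v w = true) : el v = el w := by
  simp only [sameW, Bool.and_eq_true, List.all_eq_true] at h
  refine eq_of_six fun b hb => ?_
  rw [pt_el h.1.1 (six_lt b hb), pt_el h.1.2 (six_lt b hb)]
  exact Nat.eq_of_beq_eq_true (h.2 b hb)

/-- The check of the facts of a certificate. -/
noncomputable def okFacts (gw tw : List (List ℕ)) (facts : List (ℕ × List ℕ × List ℕ)) : Bool :=
  (tw.getD 0 []).isEmpty && facts.all fun f => sameW (cw gw f.2.1 ++ tw.getD f.1 []) (tw.getD f.1 [] ++ cw gw f.2.2)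

theorem facts_of_ok {gw tw : List (List ℕ)} {facts : List (ℕ × List ℕ × List ℕ)} (h : okFacts gw tw facts = true) :
    gE tw 0 = 1 ∧ ∀ m < facts.length, gE tw (facts.getD m (0, [], [])).1 *
      Collect.ev (gE gw) (facts.getD m (0, [], [])).2.1 * (gE tw (facts.getD m (0, [], [])).1)⁻¹ =
        Collect.ev (gE gw) (facts.getD m (0, [], [])).2.2 := by
  simp only [okFacts, Bool.and_eq_true, List.all_eq_true] at h
  refine ⟨?_, fun m hm => ?_⟩
  · rw [gE, List.isEmpty_iff.mp h.1]; rfl
  · have e := el_eq_of_sameW (h.2 _ (List.getElem_mem hm))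
    rw [List.getD_eq_getElem _ _ hm, mul_inv_eq_iff_eq_mul, ← el_cw, ← el_cw]
    show el _ * _ = _ * el _
    rw [← el_append, ← el_append]
    exact e

/-- The image of the six points as one number. -/
noncomputable def code (w : List ℕ) : ℕ := six.foldl (fun a b => Nat.add (Nat.mul a 4096) (run1 w b)) 0

/-- Increasing codes, all above `lo`. -/
noncomputable def incr (gw : List (List ℕ)) (n : ℕ) (lo : ℕ) : List (List ℕ) → Bool
  | [] => true
  | l :: L => force (code (cw gw l)) fun c => Nat.blt lo c && l.all (fun a => Nat.blt a n) &&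
      okWord (cw gw l) && incr gw n c L

theorem force_eq' {α : Type} (i : ℕ) (k : ℕ → α) : force i k = k i := by
  cases i <;> rfl

theorem incr_spec {gw : List (List ℕ)} {n : ℕ} : ∀ {lo : ℕ} {L : List (List ℕ)}, incr gw n lo L = true →
    (∀ l ∈ L, lo < code (cw gw l) ∧ (∀ a ∈ l, a < n) ∧ okWord (cw gw l) = true) ∧
      (L.map fun l => code (cw gw l)).Nodup := by
  intro lo L
  induction L generalizing lo with
  | nil => intro _; simp
  | cons l L ih =>
    intro h
    simp only [incr, force_eq', Bool.and_eq_true, List.all_eq_true, Nat.blt_eq] at h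
    obtain ⟨⟨⟨h1, h2⟩, h3⟩, h4⟩ := h
    obtain ⟨i1, i2⟩ := ih h4
    refine ⟨fun x hx => ?_, ?_⟩
    · rcases List.mem_cons.mp hx with rfl | hx
      · exact ⟨h1, h2, h3⟩
      · exact ⟨h1.trans (i1 x hx).1, (i1 x hx).2⟩
    · rw [List.map_cons, List.nodup_cons]
      refine ⟨fun hm => ?_, i2⟩
      obtain ⟨x, hx, e⟩ := List.mem_map.mp hm
      exact absurd ((i1 x hx).1) (by rw [e]; exact lt_irrefl _)

theorem card_closure_ge {gw : List (List ℕ)} {n lo : ℕ} {L : List (List ℕ)} (h : incr gw n lo L = true) :
    L.length ≤ Nat.card (Subgroup.closure (gE gw '' {k | k < n})) := by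
  obtain ⟨h1, h2⟩ := incr_spec h
  have hmem : ∀ l ∈ L, el (cw gw l) ∈ Subgroup.closure (gE gw '' {k | k < n}) := fun l hl => by
    rw [el_cw]
    refine Subgroup.list_prod_mem _ fun x hx => ?_
    obtain ⟨a, ha, rfl⟩ := List.mem_map.mp hx
    exact Subgroup.subset_closure ⟨a, (h1 l hl).2.1 a ha, rfl⟩
  let f : Fin L.length → Subgroup.closure (gE gw '' {k | k < n}) := fun i => ⟨_, hmem _ (L.get_mem i)⟩
  have hf : Function.Injective f := by
    intro i j hij
    have e : el (cw gw (L.get i)) = el (cw gw (L.get j)) := congrArg Subtype.val hij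
    have hc : code (cw gw (L.get i)) = code (cw gw (L.get j)) := by
      have hr : ∀ b ∈ six, run1 (cw gw (L.get i)) b = run1 (cw gw (L.get j)) b := fun b hb => by
        rw [← pt_el (h1 _ (L.get_mem i)).2.2 (six_lt b hb), e, pt_el (h1 _ (L.get_mem j)).2.2 (six_lt b hb)]
      simp only [code, six, List.foldl_cons, List.foldl_nil]
      rw [hr 0 (by decide), hr 2 (by decide), hr 1 (by decide), hr 5 (by decide), hr 18 (by decide), hr 9 (by decide)]
    have := (List.nodup_iff_injective_get.mp h2) (a₁ := ⟨i, by simp⟩) (a₂ := ⟨j, by simp⟩) (by simpa using hc)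
    exact Fin.ext (by simpa using congrArg Fin.val this)
  simpa using Nat.card_le_card_of_injective f hf

/-- A certificate for a prime kills that torsion of a stem extension. -/
theorem no_torsion (C : CollectP.Cert) (hC : C.check = true) (hp : C.p.Prime) {gw tw : List (List ℕ)}
    (hF : okFacts gw tw C.facts = true) {lo : ℕ} {L : List (List ℕ)} (hL : incr gw C.n lo L = true)
    (hlen : L.length = C.p ^ C.n) (hdiv : ¬ C.p * C.p ^ C.n ∣ 4030387200)
    {Γ : Type u} [Group Γ] [Finite Γ] {σ : Γ →* presHe.Grp} (hσ : Cfsg.IsStemExtension σ) {z : Γ}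
    (hz : z ∈ σ.ker) (hzp : z ^ C.p = 1) : z = 1 := by
  obtain ⟨ht, hf⟩ := facts_of_ok hF
  have hle : C.p ^ C.n ≤ Nat.card (Subgroup.closure (gE gw '' {k | k < C.n})) := hlen ▸ card_closure_ge hL
  refine CollectP.no_torsion hσ hp (fun Δ _ _ τ hτ hexp => ?_) hz hzp
  rw [eq_bot_iff]
  intro x hx
  have hupper := CollectP.card_lift C (Gl := gE gw) (Tl := gE tw) (E := fun _ => (1 : presHe.Grp))
    (fun _ _ => Commute.one_left _) (fun _ => one_pow _) ht (fun m => by
      show _ = _ * (1 : presHe.Grp)
      rw [mul_one]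
      by_cases hm : m < C.facts.length
      · exact hf m hm
      · rw [show C.fact m = (0, [], []) from List.getD_eq_default _ _ (not_lt.mp hm)]
        simp [Collect.ev_nil, ht]) hC
  have hone : ∀ f : ℕ → ℤ, CollectMod.zz (fun _ => (1 : presHe.Grp)) C.facts.length f = 1 := by
    intro f
    induction C.facts.length with
    | zero => rfl
    | succ k ih => simp [CollectMod.zz, ih]
  simp only [hone, mul_one] at hupper
  have hindex := CollectP.pow_index_eq_one hτ C hexp hC (gE gw) (gE tw) ht hf hle hx
  have hmul := Subgroup.card_mul_index (Subgroup.closure (gE gw '' {k | k < C.n}))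
  rw [le_antisymm hupper hle, card_grp] at hmul
  have hco : Nat.Coprime C.p (Subgroup.closure (gE gw '' {k | k < C.n})).index :=
    (Nat.Prime.coprime_iff_not_dvd hp).mpr
      fun h => hdiv (by rw [← hmul, mul_comm C.p]; exact Nat.mul_dvd_mul_left _ h)
  have := pow_gcd_eq_one.mpr ⟨hexp x hx, hindex⟩
  rwa [hco.gcd_eq_one, pow_one] at this

/-- A certificate for the prime two kills the two-torsion. -/
theorem no_torsion_two (C : Collect.Cert) (hC : C.check = true) {gw tw : List (List ℕ)}
    (hF : okFacts gw tw C.facts = true) {lo : ℕ} {L : List (List ℕ)} (hL : incr gw C.n lo L = true)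
    (hlen : L.length = 2 ^ C.n) (hdiv : ¬ 2 * 2 ^ C.n ∣ 4030387200)
    {Γ : Type u} [Group Γ] [Finite Γ] {σ : Γ →* presHe.Grp} (hσ : Cfsg.IsStemExtension σ) {z : Γ}
    (hz : z ∈ σ.ker) (hzp : z ^ 2 = 1) : z = 1 := by
  obtain ⟨ht, hf⟩ := facts_of_ok hF
  have hle : 2 ^ C.n ≤ Nat.card (Subgroup.closure (gE gw '' {k | k < C.n})) := hlen ▸ card_closure_ge hL
  refine Collect.eq_one_of_sq_surjective (fun y hy => Collect.sq_surjective hσ (fun Δ _ _ τ hτ hexp => ?_) hy) 1 z hz
    (by rwa [pow_one])
  rw [eq_bot_iff]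
  intro x hx
  have hupper := Collect.card_lift (C := C) (Gl := gE gw) (Tl := gE tw) (E := fun _ => (1 : presHe.Grp))
    (fun _ _ => Commute.one_left _) (fun _ => one_mul _) ht (fun m => by
      show _ = _ * (1 : presHe.Grp)
      rw [mul_one]
      by_cases hm : m < C.facts.length
      · exact hf m hm
      · rw [show C.fact m = (0, [], []) from List.getD_eq_default _ _ (not_lt.mp hm)]
        simp [Collect.ev_nil, ht]) hC
  have hone : ∀ f : ℕ, Collect.zz (fun _ => (1 : presHe.Grp)) C.facts.length f = 1 := by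
    intro f
    induction C.facts.length with
    | zero => rfl
    | succ k ih => simp [Collect.zz, ih]
  simp only [hone, mul_one] at hupper
  have hindex := Collect.pow_index_eq_one hτ hexp C hC (gE gw) (gE tw) ht hf hle hx
  have hmul := Subgroup.card_mul_index (Subgroup.closure (gE gw '' {k | k < C.n}))
  rw [le_antisymm hupper hle, card_grp] at hmul
  have hco : Nat.Coprime 2 (Subgroup.closure (gE gw '' {k | k < C.n})).index :=
    (Nat.Prime.coprime_iff_not_dvd Nat.prime_two).mpr
      fun h => hdiv (by rw [← hmul, mul_comm 2]; exact Nat.mul_dvd_mul_left _ h)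
  have := pow_gcd_eq_one.mpr ⟨show x ^ 2 = 1 by rw [pow_two]; exact hexp x hx, hindex⟩
  rwa [hco.gcd_eq_one, pow_one] at this

end CfsgLib.HeMult
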