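/-
Sylow collector data for the multiplier of the Held group, checked in `Lib/HeMult/Checks.lean`.
-/
import Cfsg.Agent.Lib.StemSylow.CollectP

set_option autoImplicit false
set_option maxRecDepth 100000

namespace CfsgLib.HeMult

open CfsgLib.StemSylow

/-- The collector for 2. -/
def certTwo : Collect.Cert where
  n := 10
  fuel := 3000
  facts := [(0, [0, 0], [4, 5, 6, 9]),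
    (0, [1, 0], [0, 1, 2, 3, 9]),
    (0, [2, 0], [0, 2, 4, 5, 6, 9]),
    (0, [3, 0], [0, 3, 4, 5, 6, 9]),
    (0, [4, 0], [0, 3, 4, 5, 6, 7]),
    (0, [5, 0], [0, 3, 4, 5, 7]),
    (0, [6, 0], [0, 4, 5, 9]),
    (0, [7, 0], [0, 3, 4]),
    (0, [8, 0], [0, 8]),
    (0, [9, 0], [0, 9]),
    (0, [1, 1], [2]),
    (0, [2, 1], [1, 2]),
    (0, [3, 1], [1, 3, 4, 5, 6]),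
    (0, [4, 1], [1, 3, 4, 5, 6, 7]),
    (0, [5, 1], [1, 4, 5, 7]),
    (0, [6, 1], [1, 3, 4, 5]),
    (0, [7, 1], [1, 4, 5, 6, 7, 8]),
    (0, [8, 1], [1, 3, 5, 6, 7]),
    (0, [9, 1], [1, 9]),
    (0, [2, 2], []),
    (0, [3, 2], [2, 3, 9]),
    (0, [4, 2], [2, 3, 4, 5, 6, 7, 8, 9]),
    (0, [5, 2], [2, 3, 4, 5, 7, 8, 9]),
    (0, [6, 2], [2, 4, 5, 9]),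
    (0, [7, 2], [2, 3, 5, 6, 8, 9]),
    (0, [8, 2], [2, 8]),
    (0, [9, 2], [2, 9]),
    (0, [3, 3], []),
    (0, [4, 3], [3, 4, 9]),
    (0, [5, 3], [3, 5, 9]),
    (0, [6, 3], [3, 6]),
    (0, [7, 3], [3, 7]),
    (0, [8, 3], [3, 8, 9]),
    (0, [9, 3], [3, 9]),
    (0, [4, 4], []),
    (0, [5, 4], [4, 5, 9]),
    (0, [6, 4], [4, 6]),
    (0, [7, 4], [4, 7]),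
    (0, [8, 4], [4, 8]),
    (0, [9, 4], [4, 9]),
    (0, [5, 5], [9]),
    (0, [6, 5], [5, 6]),
    (0, [7, 5], [5, 7]),
    (0, [8, 5], [5, 8]),
    (0, [9, 5], [5, 9]),
    (0, [6, 6], []),
    (0, [7, 6], [6, 7, 9]),
    (0, [8, 6], [6, 8]),
    (0, [9, 6], [6, 9]),
    (0, [7, 7], [9]),
    (0, [8, 7], [7, 8, 9]),
    (0, [9, 7], [7, 9]),
    (0, [8, 8], []),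
    (0, [9, 8], [8, 9]),
    (0, [9, 9], []),
    (1, [0, 4, 5], [0, 1, 4, 5, 7, 9]),
    (1, [3, 6, 7], [4, 6, 7, 9]),
    (1, [4, 6, 9], [4, 5, 8, 9]),
    (1, [5, 7, 9], [4, 7, 8, 9]),
    (1, [6, 7], [3, 4, 7, 9]),
    (1, [7, 8, 9], [4, 6, 9]),
    (1, [8, 9], [3, 4, 5, 6, 7]),
    (1, [9], [9]),
    (2, [0, 1, 3, 4, 6, 8], [0, 1, 2, 3, 4, 5, 7, 8, 9]),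
    (2, [1, 4, 8, 9], [1, 2, 4, 5, 6, 7, 9]),
    (2, [2], [0, 3, 4, 6, 7, 8, 9]),
    (2, [3, 4, 7], [0, 4, 5]),
    (2, [4, 7], [0, 2, 5, 7, 9]),
    (2, [5, 7, 9], [5, 7]),
    (2, [6, 8], [6, 8, 9]),
    (2, [8, 9], [0, 2, 4, 5, 8]),
    (2, [9], [4, 5, 6, 9]),
    (3, [0, 1, 3, 4, 6, 8], [5, 6, 7, 8, 9]),
    (3, [1, 4, 8, 9], [0, 3, 4, 5, 8, 9]),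
    (3, [2], [2, 3, 4, 7, 8]),
    (3, [3, 4, 7], [3, 4, 7, 9]),
    (3, [4, 7], [0, 1, 3, 6, 7, 8, 9]),
    (3, [5, 6], [0, 1, 4, 6, 7, 9]),
    (3, [7, 8, 9], [3, 5, 6, 9]),
    (3, [8, 9], [2, 3, 5, 6, 7, 8, 9]),
    (3, [9], [3, 5, 6, 7, 8, 9])]
  eqs := [.ins [2] [1, 0] [],
    .ins [3] [1, 0] [],
    .ins [3] [2, 0] [],
    .ins [3] [2, 1] [],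
    .ins [4] [1, 0] [],
    .ins [4] [2, 0] [],
    .ins [4] [2, 1] [],
    .ins [4] [3, 0] [],
    .ins [4] [3, 1] [],
    .ins [4] [3, 2] [],
    .ins [5] [1, 0] [],
    .ins [5] [2, 0] [],
    .ins [5] [2, 1] [],
    .ins [5] [3, 0] [],
    .ins [5] [3, 1] [],
    .ins [5] [3, 2] [],
    .ins [5] [4, 0] [],
    .ins [5] [4, 1] [],
    .ins [5] [4, 2] [],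
    .ins [5] [4, 3] [],
    .ins [6] [1, 0] [],
    .ins [6] [2, 0] [],
    .ins [6] [2, 1] [],
    .ins [6] [3, 2] [],
    .ins [6] [4, 0] [],
    .ins [6] [4, 2] [],
    .ins [7] [1, 0] [],
    .ins [7] [2, 0] [],
    .ins [7] [2, 1] [],
    .ins [7] [3, 0] [],
    .ins [7] [3, 1] [],
    .ins [7] [3, 2] [],
    .ins [7] [4, 1] [],
    .ins [1] [1, 0] [],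
    .ins [1] [0, 0] [],
    .ins [4] [0, 0] [],
    .ins [5] [1, 1] [],
    .conj [55, 55] [],
    .conj [56, 55] [55, 57],
    .conj [56, 56] [],
    .conj [57, 56] [56, 57],
    .conj [58, 55] [55, 58],
    .conj [58, 56] [56, 58],
    .conj [58, 58] [],
    .conj [59, 56] [56, 59],
    .conj [60, 55] [55, 56, 57, 60],
    .conj [65, 63] [63, 65, 66, 67, 68, 69, 71],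
    .conj [65, 64] [64, 65, 66, 67, 68, 69, 71],
    .conj [65, 65] [],
    .conj [66, 63] [63, 67, 68, 69, 71],
    .conj [74, 72] [72, 74, 75, 76, 77, 78],
    .conj [77, 72] [72, 75, 76, 78]]
  s := [0, 0, 1024, 1075, 1043, 1059, 0, 0, 65584, 49]
  combos := [[],
    [],
    [3, 5, 6, 7, 9, 16, 17, 20, 22, 23, 26, 28, 29, 30, 32, 35, 36, 37, 38, 39, 43, 44, 45, 46, 48, 49, 50, 51],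
    [1, 2, 4, 6, 7, 8, 9, 10, 12, 13, 14, 15, 16, 17, 21, 22, 24, 25, 26, 27, 29, 30, 32, 33, 35, 40, 41, 43, 47, 49],
    [],
    [],
    [0, 1, 4, 7, 9, 10, 11, 12, 13, 16, 17, 19, 20, 21, 25, 28, 31, 34, 35, 40, 44, 46, 47, 48],
    [0, 3, 4, 5, 6, 8, 9, 11, 12, 16, 18, 19, 20, 21, 22, 27, 29, 30, 31, 33, 34, 35, 39, 41, 46, 48, 49],
    [0, 1, 3, 6, 9, 11, 12, 13, 15, 19, 22, 23, 25, 30, 31, 32, 33, 36, 37, 38, 39, 40, 41, 45, 48, 50, 51],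
    [1, 2, 3, 5, 6, 11, 12, 14, 17, 18, 19, 24, 25, 30, 31],
    [],
    [4, 5, 6, 7, 10, 12, 14, 16, 19, 22, 24, 26, 29, 30, 33, 34, 35, 36],
    [0, 1, 2, 3, 4, 6, 7, 9, 10, 15, 17, 18, 19, 20, 21, 24, 27, 30, 32, 35, 39, 41, 44],
    [1, 3, 7, 10, 13, 14, 17, 19, 20, 23, 24, 26, 27, 28, 30, 31, 32, 33, 36, 37, 42, 48, 50, 51],
    [0, 1, 2, 3, 7, 8, 10, 13, 14, 17, 18, 20, 21, 22, 25, 26, 27, 28, 29, 34, 35, 36, 38, 39, 43, 44, 45, 50, 51],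
    [2, 4, 10, 14, 15, 16, 17, 19, 20, 21, 24, 25, 28, 29, 32, 35, 36, 37, 38, 42, 45, 46, 49],
    [],
    [0, 1, 2, 3, 5, 6, 11, 14, 17, 18, 23, 24, 27, 28, 29, 30, 33, 34, 36, 38, 42, 45, 46, 48, 49],
    [0, 1, 7, 8, 13, 16, 21, 24, 29],
    [0, 6, 7, 11, 15, 17, 18, 21, 24, 27, 28, 30, 31, 33, 34, 36, 37, 38, 39, 40, 41, 45, 46, 47, 48, 50, 51],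
    [2, 3, 7, 9, 11, 12, 13, 15, 16, 21, 22, 31, 33, 35, 36, 39, 40, 43, 44, 47, 49],
    [0, 1, 2, 4, 7, 8, 9, 13, 16, 21, 22, 25, 28, 29, 35, 37, 40, 41, 42, 43, 47, 48, 49, 50, 51],
    [0, 1, 2, 6, 7, 10, 11, 15, 16, 18, 19, 20, 21, 24, 26, 27, 29, 31, 33, 34, 35, 37, 42, 43, 46, 47, 50, 51],
    [0, 1, 5, 6, 9, 11, 12, 13, 14, 16, 17, 18, 21, 22, 24, 26, 27, 33, 35, 41, 44, 47, 49],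
    [0, 2, 3, 4, 7, 8, 9, 11, 13, 14, 17, 19, 21, 22, 23, 24, 25, 27, 31, 34, 38, 43, 44, 45, 46, 47, 48],
    [2, 5, 12, 13, 15, 17, 18, 22, 23, 27, 28, 33, 35, 36, 37, 38, 39, 41, 44, 45, 48, 50, 51],
    [0, 5, 6, 11, 12, 16, 17, 18, 21, 25, 29, 30, 31],
    [0, 1, 2, 3, 5, 6, 7, 8, 9, 11, 12, 13, 14, 15, 16, 19, 22, 23, 29, 44],
    [0, 4, 6, 8, 12, 14, 15, 17, 18, 21, 23, 25, 26, 29, 31, 32, 34, 35, 39, 40, 43, 44, 46, 47, 48],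
    [0, 1, 4, 5, 9, 11, 14, 17, 18, 19, 21, 24, 25, 26, 29, 31, 32, 34, 35, 39, 40, 43, 46, 47, 48],
    [1, 5, 6, 7, 11, 12, 13, 14, 24, 44],
    [0, 2, 3, 5, 6, 7, 8, 11, 12, 13, 14, 18, 21, 23, 25, 29, 30, 31],
    [2, 3, 4, 5, 7, 11, 13, 15, 17, 19, 23, 26, 30, 31, 32, 34, 35, 39, 40, 43, 44, 46, 47, 48],
    [0, 5, 6, 7, 8, 9, 11, 12, 13, 14, 15, 16, 17, 19, 21],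
    [5, 7, 8, 9, 10, 11, 12, 14, 17, 19, 20, 24, 25, 26, 27, 28, 29, 30, 39, 42],
    [4, 5, 9, 11, 14, 16, 17, 18, 24, 25, 26, 31, 32, 34, 35, 39, 42, 43, 46, 47, 48],
    [0, 5, 6, 7, 8, 9, 11, 12, 13, 14, 15, 16, 17, 21, 29, 40, 42, 44],
    [0, 2, 3, 5, 7, 9, 10, 11, 12, 13, 20, 22, 25, 26, 27, 28, 29, 30, 40, 44],
    [0, 5, 6, 7, 9, 11, 12, 13, 14, 16, 18, 21, 24, 29, 30, 31, 32, 40, 44],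
    [0, 2, 3, 5, 6, 8, 11, 12, 17, 18, 21, 23, 24, 25, 30, 31],
    [0, 2, 3, 4, 6, 8, 9, 10, 14, 16, 17, 19, 20, 23, 25, 27, 28, 29, 31, 34, 35, 40, 46, 47, 48],
    [0, 5, 6, 8, 11, 12, 14, 16, 17, 21, 29, 40, 42, 44],
    [0, 1, 6, 8, 9, 10, 13, 14, 18, 20, 22, 23, 26, 27, 28, 29, 31, 42, 44],
    [0, 2, 3, 5, 6, 7, 11, 12, 16, 18, 21, 25, 29, 30, 32, 40, 44],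
    [2, 3, 7, 9, 13, 14, 15, 16, 18, 23, 24, 25, 30, 31],
    [0, 2, 4, 5, 7, 10, 11, 15, 16, 17, 20, 21, 22, 23, 24, 31, 32, 40, 43],
    [0, 4, 6, 7, 8, 12, 14, 15, 16, 17, 18, 21, 23, 24, 25, 26, 29, 31, 32, 34, 35, 39, 42, 43, 44, 46, 47, 48],
    [0, 1, 2, 3, 14, 18, 19, 21, 24, 29],
    [7, 8, 13, 14, 19, 23],
    [1, 3, 4, 5, 9, 10, 12, 15, 16, 20, 21, 22, 24, 25, 28, 32, 34, 35, 40, 42, 43, 46, 47, 48],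
    [0, 1, 2, 3, 4, 5, 6, 8, 9, 10, 11, 14, 16, 17, 19, 20, 22, 24, 25, 27, 28, 30, 31, 34, 35, 39, 43, 46, 47, 48],
    [0, 2, 3, 5, 6, 7, 8, 11, 12, 16, 17, 18, 19, 21, 23, 25, 29, 30, 31],
    [2, 3, 5, 6, 8, 9, 10, 11, 15, 19, 20, 22, 24, 26, 27, 28, 29, 32, 40, 44],
    [0, 2, 3, 5, 6, 7, 8, 11, 12, 15, 16, 17, 21, 31],
    [2, 3, 8, 16, 18, 23, 24, 25, 30, 31]]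

/-- The words of the Sylow group. -/
def gwTwo : List (List ℕ) := [[2, 4, 3, 5, 3, 2, 3, 2, 5, 3, 2, 1, 3, 4, 5],
  [3, 6, 1, 2, 3, 2, 3, 1, 5, 6, 3, 2, 1, 5, 3, 6, 5, 3, 2, 3, 2, 6],
  [4, 3, 5, 6, 2, 1, 3, 4, 6, 3, 2, 1, 3, 4, 6, 3, 2, 5, 3, 4],
  [6, 3, 2, 5, 3, 4, 6, 3, 2, 5, 3, 6],
  [4, 1, 2, 3, 6, 3, 2, 3, 2, 6, 3, 2, 1, 3, 4, 6],
  [5, 3, 6, 2, 3, 4, 0, 1, 5, 3, 2, 1, 3, 4, 5, 3, 2, 1, 6, 3, 5],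
  [3, 4, 1, 2, 3, 5, 3, 2, 3, 2, 5, 3, 2, 1, 3, 4, 5],
  [5, 3, 6, 2, 3, 0, 1, 0, 4, 5, 3, 2, 1, 3, 4, 5, 3, 2, 1, 6, 3, 5],
  [3, 4, 3, 6, 3, 4],
  [3]]

/-- The words of the fusing elements. -/
def twTwo : List (List ℕ) := [[],
  [4, 3, 1, 2, 3, 5, 4, 3, 6, 4, 2, 0, 1, 3, 2, 3, 4, 5, 3, 2, 1, 3, 2, 6, 3, 5],
  [3, 5, 3, 2, 1, 0, 3, 2, 4, 3, 2, 1, 3, 2, 3, 6, 5, 3, 4, 6],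
  [2, 3, 6, 2, 3, 2, 3, 6, 3, 2, 3, 1, 0, 2, 1, 3, 2, 3, 2, 1, 0, 6, 3, 2, 3, 4, 3]]

/-- The elements, by increasing codes. -/
def listTwo : List (List ℕ) := [[],
  [4, 6, 9],
  [3, 6, 7],
  [3, 4, 7],
  [9],
  [4, 6],
  [3, 6, 7, 9],
  [3, 4, 7, 9],
  [3],
  [3, 4, 6, 9],
  [6, 7],
  [4, 7],
  [5, 7, 9],
  [4, 5, 6, 7],
  [3, 5, 6],
  [3, 4, 5],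
  [3, 5, 7, 9],
  [3, 4, 5, 6, 7],
  [5, 6],
  [4, 5],
  [3, 4, 6],
  [3, 9],
  [4, 7, 9],
  [6, 7, 9],
  [5, 7],
  [4, 5, 6, 7, 9],
  [3, 5, 6, 9],
  [3, 4, 5, 9],
  [3, 4, 5, 6, 7, 9],
  [3, 5, 7],
  [4, 5, 9],
  [5, 6, 9],
  [3, 7, 8],
  [3, 4, 6, 7, 8],
  [6, 8],
  [4, 8, 9],
  [6, 8, 9],
  [4, 8],
  [3, 7, 8, 9],
  [3, 4, 6, 7, 8, 9],
  [5, 6, 7, 8, 9],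
  [4, 5, 7, 8],
  [3, 5, 8],
  [3, 4, 5, 6, 8],
  [3, 5, 8, 9],
  [3, 4, 5, 6, 8, 9],
  [5, 6, 7, 8],
  [4, 5, 7, 8, 9],
  [0, 1, 3, 4, 6, 8],
  [0, 1, 3, 8, 9],
  [0, 1, 4, 7, 8, 9],
  [0, 1, 6, 7, 8, 9],
  [0, 1, 3, 4, 7, 8, 9],
  [0, 1, 3, 6, 7, 8, 9],
  [0, 1, 4, 6, 8],
  [0, 1, 8, 9],
  [0, 1, 3, 5, 9],
  [0, 1, 3, 4, 5, 6, 9],
  [0, 1, 5, 6, 7],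
  [0, 1, 4, 5, 7, 9],
  [0, 1, 3, 4, 6, 8, 9],
  [0, 1, 3, 8],
  [0, 1, 4, 7, 8],
  [0, 1, 6, 7, 8],
  [0, 1, 3, 5],
  [0, 1, 3, 4, 5, 6],
  [0, 1, 5, 6, 7, 9],
  [0, 1, 4, 5, 7],
  [0, 1, 3, 5, 6, 7, 9],
  [0, 1, 3, 4, 5, 7],
  [0, 1, 5],
  [0, 1, 4, 5, 6],
  [0, 1, 3, 4, 7, 8],
  [0, 1, 3, 6, 7, 8],
  [0, 1, 4, 6, 8, 9],
  [0, 1, 8],
  [0, 1, 3, 5, 6, 7],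
  [0, 1, 3, 4, 5, 7, 9],
  [0, 1, 5, 9],
  [0, 1, 4, 5, 6, 9],
  [0, 1, 3, 6],
  [0, 1, 3, 4, 9],
  [0, 1, 7],
  [0, 1, 4, 6, 7],
  [0, 1, 3, 4, 5, 8],
  [0, 1, 3, 5, 6, 8],
  [0, 1, 4, 5, 6, 7, 8],
  [0, 1, 5, 7, 8, 9],
  [4, 5, 6, 8],
  [5, 8],
  [3, 4, 5, 7, 8],
  [3, 5, 6, 7, 8, 9],
  [0, 1, 3, 7, 9],
  [0, 1, 3, 4, 6, 7, 9],
  [0, 1, 6, 9],
  [0, 1, 4],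
  [0, 1, 3, 4, 5, 6, 7, 8],
  [0, 1, 3, 5, 7, 8, 9],
  [0, 1, 4, 5, 8],
  [0, 1, 5, 6, 8],
  [3, 4, 5, 7, 8, 9],
  [3, 5, 6, 7, 8],
  [4, 5, 6, 8, 9],
  [5, 8, 9],
  [0, 1, 3, 6, 9],
  [0, 1, 3, 4],
  [0, 1, 7, 9],
  [0, 1, 4, 6, 7, 9],
  [0, 1, 3, 4, 5, 8, 9],
  [0, 1, 3, 5, 6, 8, 9],
  [0, 1, 4, 5, 6, 7, 8, 9],
  [0, 1, 5, 7, 8],
  [0, 1, 3, 7],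
  [0, 1, 3, 4, 6, 7],
  [0, 1, 6],
  [0, 1, 4, 9],
  [0, 1, 3, 4, 5, 6, 7, 8, 9],
  [0, 1, 3, 5, 7, 8],
  [0, 1, 4, 5, 8, 9],
  [0, 1, 5, 6, 8, 9],
  [4, 6, 7, 8, 9],
  [7, 8, 9],
  [3, 4, 8],
  [3, 6, 8, 9],
  [3, 4, 8, 9],
  [3, 6, 8],
  [4, 6, 7, 8],
  [7, 8],
  [0, 4, 5],
  [0, 5, 6],
  [0, 3, 4, 5, 6, 7],
  [0, 3, 5, 7, 9],
  [0, 4, 5, 9],
  [0, 5, 6, 9],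
  [0, 3, 4, 5, 6, 7, 9],
  [0, 3, 5, 7],
  [0, 4, 7],
  [0, 6, 7],
  [0, 3, 4, 6, 9],
  [0, 3],
  [0, 4, 5, 6, 7],
  [0, 5, 7, 9],
  [0, 3, 4, 5],
  [0, 3, 5, 6],
  [0, 4, 5, 6, 8],
  [0, 5, 8],
  [0, 3, 4, 5, 7, 8],
  [0, 3, 5, 6, 7, 8, 9],
  [0, 4, 7, 9],
  [0, 6, 7, 9],
  [0, 3, 4, 6],
  [0, 3, 9],
  [0, 5, 7],
  [0, 4, 5, 6, 7, 9],
  [0, 3, 5, 6, 9],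
  [0, 3, 4, 5, 9],
  [0, 4, 6, 9],
  [0],
  [0, 3, 4, 7],
  [0, 3, 6, 7],
  [0, 5, 8, 9],
  [0, 4, 5, 6, 8, 9],
  [0, 3, 5, 6, 7, 8],
  [0, 3, 4, 5, 7, 8, 9],
  [0, 7, 8],
  [0, 4, 6, 7, 8],
  [0, 3, 6, 8],
  [0, 3, 4, 8, 9],
  [0, 4, 6, 7, 8, 9],
  [0, 7, 8, 9],
  [0, 3, 4, 8],
  [0, 3, 6, 8, 9],
  [0, 9],
  [0, 4, 6],
  [0, 3, 6, 7, 9],
  [0, 3, 4, 7, 9],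
  [1, 4, 8, 9],
  [1, 6, 8],
  [1, 3, 4, 6, 7, 8],
  [1, 3, 7, 8],
  [1, 5, 7],
  [1, 4, 5, 6, 7, 9],
  [1, 3, 5, 6, 9],
  [1, 3, 4, 5, 9],
  [1, 5, 6],
  [1, 4, 5],
  [1, 3, 5, 7, 9],
  [1, 3, 4, 5, 6, 7],
  [1, 4, 8],
  [1, 6, 8, 9],
  [1, 3, 4, 6, 7, 8, 9],
  [1, 3, 7, 8, 9],
  [1, 5, 6, 9],
  [1, 4, 5, 9],
  [1, 3, 5, 7],
  [1, 3, 4, 5, 6, 7, 9],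
  [1, 4, 6, 7, 8],
  [1, 7, 8],
  [1, 3, 4, 8, 9],
  [1, 3, 6, 8],
  [1, 5, 7, 9],
  [1, 4, 5, 6, 7],
  [1, 3, 5, 6],
  [1, 3, 4, 5],
  [1, 4, 6, 7, 8, 9],
  [1, 7, 8, 9],
  [1, 3, 4, 8],
  [1, 3, 6, 8, 9],
  [1, 9],
  [1, 4, 6],
  [1, 3, 6, 7, 9],
  [1, 3, 4, 7, 9],
  [1, 4, 5, 6, 8, 9],
  [1, 5, 8, 9],
  [1, 3, 4, 5, 7, 8, 9],
  [1, 3, 5, 6, 7, 8],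
  [1, 4, 5, 7, 8, 9],
  [1, 5, 6, 7, 8],
  [1, 3, 4, 5, 6, 8, 9],
  [1, 3, 5, 8, 9],
  [0, 4, 8],
  [0, 6, 8, 9],
  [0, 3, 4, 6, 7, 8, 9],
  [0, 3, 7, 8, 9],
  [1, 6, 7],
  [1, 4, 7],
  [1, 3],
  [1, 3, 4, 6, 9],
  [1],
  [1, 4, 6, 9],
  [1, 3, 6, 7],
  [1, 3, 4, 7],
  [1, 4, 5, 6, 8],
  [1, 5, 8],
  [1, 3, 4, 5, 7, 8],
  [1, 3, 5, 6, 7, 8, 9],
  [0, 6, 8],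
  [0, 4, 8, 9],
  [0, 3, 7, 8],
  [0, 3, 4, 6, 7, 8],
  [1, 4, 5, 7, 8],
  [1, 5, 6, 7, 8, 9],
  [1, 3, 4, 5, 6, 8],
  [1, 3, 5, 8],
  [1, 6, 7, 9],
  [1, 4, 7, 9],
  [1, 3, 9],
  [1, 3, 4, 6],
  [0, 5, 6, 7, 8],
  [0, 4, 5, 7, 8, 9],
  [0, 3, 5, 8, 9],
  [0, 3, 4, 5, 6, 8, 9],
  [0, 4, 5, 7, 8],
  [0, 5, 6, 7, 8, 9],
  [0, 3, 4, 5, 6, 8],
  [0, 3, 5, 8],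
  [3, 4, 7, 8, 9],
  [3, 6, 7, 8, 9],
  [4, 6, 8],
  [8, 9],
  [3, 4, 7, 8],
  [3, 6, 7, 8],
  [4, 6, 8, 9],
  [8],
  [3, 4, 6, 8],
  [3, 8, 9],
  [4, 7, 8, 9],
  [6, 7, 8, 9],
  [3, 4, 5, 8, 9],
  [3, 5, 6, 8, 9],
  [4, 5, 6, 7, 8, 9],
  [5, 7, 8],
  [4, 5, 8, 9],
  [5, 6, 8, 9],
  [3, 4, 5, 6, 7, 8, 9],
  [3, 5, 7, 8],
  [4, 7, 8],
  [6, 7, 8],
  [3, 4, 6, 8, 9],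
  [3, 8],
  [3, 4, 5, 8],
  [3, 5, 6, 8],
  [4, 5, 6, 7, 8],
  [5, 7, 8, 9],
  [3, 4, 5, 6, 7, 8],
  [3, 5, 7, 8, 9],
  [4, 5, 8],
  [5, 6, 8],
  [3, 7, 9],
  [3, 4, 6, 7, 9],
  [6, 9],
  [4],
  [6],
  [4, 9],
  [3, 7],
  [3, 4, 6, 7],
  [3, 5, 9],
  [3, 4, 5, 6, 9],
  [5, 6, 7],
  [4, 5, 7, 9],
  [5, 6, 7, 9],
  [4, 5, 7],
  [3, 5],
  [3, 4, 5, 6],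
  [0, 1, 3],
  [0, 1, 3, 4, 6, 9],
  [0, 1, 6, 7],
  [0, 1, 4, 7],
  [0, 1],
  [0, 1, 4, 6, 9],
  [0, 1, 3, 6, 7],
  [0, 1, 3, 4, 7],
  [0, 1, 4, 5, 7, 8],
  [0, 1, 5, 6, 7, 8, 9],
  [0, 1, 3, 4, 5, 6, 8],
  [0, 1, 3, 5, 8],
  [0, 1, 3, 9],
  [0, 1, 3, 4, 6],
  [0, 1, 6, 7, 9],
  [0, 1, 4, 7, 9],
  [0, 1, 4, 5, 7, 8, 9],
  [0, 1, 5, 6, 7, 8],
  [0, 1, 3, 4, 5, 6, 8, 9],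
  [0, 1, 3, 5, 8, 9],
  [0, 1, 4, 5, 6, 8, 9],
  [0, 1, 5, 8, 9],
  [0, 1, 3, 4, 5, 7, 8, 9],
  [0, 1, 3, 5, 6, 7, 8],
  [0, 1, 9],
  [0, 1, 4, 6],
  [0, 1, 3, 6, 7, 9],
  [0, 1, 3, 4, 7, 9],
  [0, 1, 3, 4, 5, 7, 8],
  [0, 1, 3, 5, 6, 7, 8, 9],
  [0, 1, 4, 5, 6, 8],
  [0, 1, 5, 8],
  [0, 1, 3, 4, 8],
  [0, 1, 3, 6, 8, 9],
  [0, 1, 4, 6, 7, 8, 9],
  [0, 1, 7, 8, 9],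
  [0, 1, 5, 7],
  [0, 1, 4, 5, 6, 7, 9],
  [0, 1, 3, 5, 6, 9],
  [0, 1, 3, 4, 5, 9],
  [4, 5, 6, 9],
  [5, 9],
  [3, 4, 5, 7, 9],
  [3, 5, 6, 7],
  [0, 1, 4, 8, 9],
  [0, 1, 6, 8],
  [0, 1, 3, 4, 6, 7, 8],
  [0, 1, 3, 7, 8],
  [0, 1, 3, 5, 7],
  [0, 1, 3, 4, 5, 6, 7, 9],
  [0, 1, 5, 6, 9],
  [0, 1, 4, 5, 9],
  [4, 5, 6],
  [5],
  [3, 4, 5, 7],
  [3, 5, 6, 7, 9],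
  [0, 1, 4, 6, 7, 8],
  [0, 1, 7, 8],
  [0, 1, 3, 4, 8, 9],
  [0, 1, 3, 6, 8],
  [0, 1, 5, 7, 9],
  [0, 1, 4, 5, 6, 7],
  [0, 1, 3, 5, 6],
  [0, 1, 3, 4, 5],
  [0, 1, 4, 8],
  [0, 1, 6, 8, 9],
  [0, 1, 3, 4, 6, 7, 8, 9],
  [0, 1, 3, 7, 8, 9],
  [0, 1, 3, 5, 7, 9],
  [0, 1, 3, 4, 5, 6, 7],
  [0, 1, 5, 6],
  [0, 1, 4, 5],
  [4, 6, 7],
  [7],
  [3, 4, 9],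
  [3, 6],
  [4, 6, 7, 9],
  [7, 9],
  [3, 4],
  [3, 6, 9],
  [0, 3, 5, 7, 8],
  [0, 3, 4, 5, 6, 7, 8, 9],
  [0, 5, 6, 8, 9],
  [0, 4, 5, 8, 9],
  [0, 3, 5, 7, 8, 9],
  [0, 3, 4, 5, 6, 7, 8],
  [0, 5, 6, 8],
  [0, 4, 5, 8],
  [0, 3, 8, 9],
  [0, 3, 4, 6, 8],
  [0, 6, 7, 8, 9],
  [0, 4, 7, 8, 9],
  [0, 5, 7, 8],
  [0, 4, 5, 6, 7, 8, 9],
  [0, 3, 5, 6, 8, 9],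
  [0, 3, 4, 5, 8, 9],
  [0, 3, 5, 6, 7],
  [0, 3, 4, 5, 7, 9],
  [0, 5, 9],
  [0, 4, 5, 6, 9],
  [0, 3, 8],
  [0, 3, 4, 6, 8, 9],
  [0, 6, 7, 8],
  [0, 4, 7, 8],
  [0, 4, 5, 6, 7, 8],
  [0, 5, 7, 8, 9],
  [0, 3, 4, 5, 8],
  [0, 3, 5, 6, 8],
  [0, 4, 6, 8],
  [0, 8, 9],
  [0, 3, 4, 7, 8, 9],
  [0, 3, 6, 7, 8, 9],
  [0, 5],
  [0, 4, 5, 6],
  [0, 3, 5, 6, 7, 9],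
  [0, 3, 4, 5, 7],
  [0, 3, 6, 9],
  [0, 3, 4],
  [0, 7, 9],
  [0, 4, 6, 7, 9],
  [0, 7],
  [0, 4, 6, 7],
  [0, 3, 6],
  [0, 3, 4, 9],
  [0, 8],
  [0, 4, 6, 8, 9],
  [0, 3, 6, 7, 8],
  [0, 3, 4, 7, 8],
  [1, 6, 9],
  [1, 4],
  [1, 3, 7, 9],
  [1, 3, 4, 6, 7, 9],
  [1, 3, 4, 5, 8],
  [1, 3, 5, 6, 8],
  [1, 4, 5, 6, 7, 8],
  [1, 5, 7, 8, 9],
  [1, 3, 4, 5, 6, 7, 8, 9],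
  [1, 3, 5, 7, 8],
  [1, 4, 5, 8, 9],
  [1, 5, 6, 8, 9],
  [1, 6],
  [1, 4, 9],
  [1, 3, 7],
  [1, 3, 4, 6, 7],
  [1, 3, 4, 5, 6, 7, 8],
  [1, 3, 5, 7, 8, 9],
  [1, 4, 5, 8],
  [1, 5, 6, 8],
  [1, 3, 6, 9],
  [1, 3, 4],
  [1, 7, 9],
  [1, 4, 6, 7, 9],
  [1, 4, 5, 6, 7, 8, 9],
  [1, 5, 7, 8],
  [1, 3, 4, 5, 8, 9],
  [1, 3, 5, 6, 8, 9],
  [1, 3, 6],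
  [1, 3, 4, 9],
  [1, 7],
  [1, 4, 6, 7],
  [1, 4, 6, 8, 9],
  [1, 8],
  [1, 3, 4, 7, 8],
  [1, 3, 6, 7, 8],
  [1, 3, 5, 6, 7, 9],
  [1, 3, 4, 5, 7],
  [1, 5],
  [1, 4, 5, 6],
  [1, 5, 6, 7, 9],
  [1, 4, 5, 7],
  [1, 3, 5],
  [1, 3, 4, 5, 6],
  [0, 6],
  [0, 4, 9],
  [0, 3, 7],
  [0, 3, 4, 6, 7],
  [1, 3, 4, 6, 8],
  [1, 3, 8, 9],
  [1, 4, 7, 8, 9],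
  [1, 6, 7, 8, 9],
  [1, 3, 4, 7, 8, 9],
  [1, 3, 6, 7, 8, 9],
  [1, 4, 6, 8],
  [1, 8, 9],
  [1, 3, 5, 6, 7],
  [1, 3, 4, 5, 7, 9],
  [1, 5, 9],
  [1, 4, 5, 6, 9],
  [0, 6, 9],
  [0, 4],
  [0, 3, 7, 9],
  [0, 3, 4, 6, 7, 9],
  [1, 5, 6, 7],
  [1, 4, 5, 7, 9],
  [1, 3, 5, 9],
  [1, 3, 4, 5, 6, 9],
  [1, 3, 4, 6, 8, 9],
  [1, 3, 8],
  [1, 4, 7, 8],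
  [1, 6, 7, 8],
  [0, 5, 6, 7, 9],
  [0, 4, 5, 7],
  [0, 3, 5],
  [0, 3, 4, 5, 6],
  [0, 5, 6, 7],
  [0, 4, 5, 7, 9],
  [0, 3, 5, 9],
  [0, 3, 4, 5, 6, 9],
  [0, 2, 3, 4, 6, 7, 8],
  [0, 2, 3, 7, 8],
  [0, 2, 4, 8, 9],
  [0, 2, 6, 8],
  [0, 2, 3, 4, 6, 7, 8, 9],
  [0, 2, 3, 7, 8, 9],
  [0, 2, 4, 8],
  [0, 2, 6, 8, 9],
  [0, 2, 3, 5, 6, 9],
  [0, 2, 3, 4, 5, 9],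
  [0, 2, 5, 7],
  [0, 2, 4, 5, 6, 7, 9],
  [0, 2, 4, 7, 9],
  [0, 2, 6, 7, 9],
  [0, 2, 3, 4, 6],
  [0, 2, 3, 9],
  [0, 2, 4, 5, 6, 8],
  [0, 2, 5, 8],
  [0, 2, 3, 4, 5, 7, 8],
  [0, 2, 3, 5, 6, 7, 8, 9],
  [0, 2, 3, 4, 5],
  [0, 2, 3, 5, 6],
  [0, 2, 4, 5, 6, 7],
  [0, 2, 5, 7, 9],
  [0, 2, 4, 7],
  [0, 2, 6, 7],
  [0, 2, 3, 4, 6, 9],
  [0, 2, 3],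
  [0, 2, 3, 4, 5, 7, 8, 9],
  [0, 2, 3, 5, 6, 7, 8],
  [0, 2, 4, 5, 6, 8, 9],
  [0, 2, 5, 8, 9],
  [0, 2, 3, 4, 7],
  [0, 2, 3, 6, 7],
  [0, 2, 4, 6, 9],
  [0, 2],
  [0, 2, 3, 6, 7, 9],
  [0, 2, 3, 4, 7, 9],
  [0, 2, 9],
  [0, 2, 4, 6],
  [0, 2, 4, 6, 7, 8, 9],
  [0, 2, 7, 8, 9],
  [0, 2, 3, 4, 8],
  [0, 2, 3, 6, 8, 9],
  [0, 2, 3, 4, 8, 9],
  [0, 2, 3, 6, 8],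
  [0, 2, 4, 6, 7, 8],
  [0, 2, 7, 8],
  [1, 2, 3, 7, 9],
  [1, 2, 3, 4, 6, 7, 9],
  [1, 2, 6, 9],
  [1, 2, 4],
  [1, 2, 3, 4, 5, 8],
  [1, 2, 3, 5, 6, 8],
  [1, 2, 4, 5, 6, 7, 8],
  [1, 2, 5, 7, 8, 9],
  [1, 2, 3, 4, 5, 6, 7, 8, 9],
  [1, 2, 3, 5, 7, 8],
  [1, 2, 4, 5, 8, 9],
  [1, 2, 5, 6, 8, 9],
  [1, 2, 3, 7],
  [1, 2, 3, 4, 6, 7],
  [1, 2, 6],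
  [1, 2, 4, 9],
  [1, 2, 3, 6, 9],
  [1, 2, 3, 4],
  [1, 2, 7, 9],
  [1, 2, 4, 6, 7, 9],
  [1, 2, 3, 5, 6, 8, 9],
  [1, 2, 3, 4, 5, 8, 9],
  [1, 2, 5, 7, 8],
  [1, 2, 4, 5, 6, 7, 8, 9],
  [1, 2, 3, 5, 6, 7, 9],
  [1, 2, 3, 4, 5, 7],
  [1, 2, 5],
  [1, 2, 4, 5, 6],
  [1, 2, 3, 4, 5, 6, 7, 8],
  [1, 2, 3, 5, 7, 8, 9],
  [1, 2, 4, 5, 8],
  [1, 2, 5, 6, 8],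
  [1, 2, 3, 6],
  [1, 2, 3, 4, 9],
  [1, 2, 7],
  [1, 2, 4, 6, 7],
  [1, 2, 3, 4, 6, 8, 9],
  [1, 2, 3, 8],
  [1, 2, 4, 7, 8],
  [1, 2, 6, 7, 8],
  [1, 2, 3, 6, 7, 8],
  [1, 2, 3, 4, 7, 8],
  [1, 2, 8],
  [1, 2, 4, 6, 8, 9],
  [1, 2, 3, 5, 6, 7],
  [1, 2, 3, 4, 5, 7, 9],
  [1, 2, 5, 9],
  [1, 2, 4, 5, 6, 9],
  [0, 2, 4, 5],
  [0, 2, 5, 6],
  [0, 2, 3, 4, 5, 6, 7],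
  [0, 2, 3, 5, 7, 9],
  [1, 2, 3, 5, 9],
  [1, 2, 3, 4, 5, 6, 9],
  [1, 2, 5, 6, 7],
  [1, 2, 4, 5, 7, 9],
  [1, 2, 3, 4, 6, 8],
  [1, 2, 3, 8, 9],
  [1, 2, 4, 7, 8, 9],
  [1, 2, 6, 7, 8, 9],
  [1, 2, 3, 4, 7, 8, 9],
  [1, 2, 3, 6, 7, 8, 9],
  [1, 2, 4, 6, 8],
  [1, 2, 8, 9],
  [0, 2, 4, 5, 9],
  [0, 2, 5, 6, 9],
  [0, 2, 3, 4, 5, 6, 7, 9],
  [0, 2, 3, 5, 7],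
  [1, 2, 3, 5],
  [1, 2, 3, 4, 5, 6],
  [1, 2, 5, 6, 7, 9],
  [1, 2, 4, 5, 7],
  [0, 2, 3, 4, 5, 6, 8],
  [0, 2, 3, 5, 8],
  [0, 2, 4, 5, 7, 8],
  [0, 2, 5, 6, 7, 8, 9],
  [0, 2, 3, 4, 5, 6, 8, 9],
  [0, 2, 3, 5, 8, 9],
  [0, 2, 4, 5, 7, 8, 9],
  [0, 2, 5, 6, 7, 8],
  [2],
  [2, 4, 6, 9],
  [2, 3, 6, 7],
  [2, 3, 4, 7],
  [2, 9],
  [2, 4, 6],
  [2, 3, 6, 7, 9],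
  [2, 3, 4, 7, 9],
  [2, 3, 6, 8, 9],
  [2, 3, 4, 8],
  [2, 7, 8, 9],
  [2, 4, 6, 7, 8, 9],
  [2, 5, 6, 7, 8],
  [2, 4, 5, 7, 8, 9],
  [2, 3, 5, 8, 9],
  [2, 3, 4, 5, 6, 8, 9],
  [2, 6, 8],
  [2, 4, 8, 9],
  [2, 3, 7, 8],
  [2, 3, 4, 6, 7, 8],
  [2, 3, 6, 8],
  [2, 3, 4, 8, 9],
  [2, 7, 8],
  [2, 4, 6, 7, 8],
  [2, 4, 5, 7, 8],
  [2, 5, 6, 7, 8, 9],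
  [2, 3, 4, 5, 6, 8],
  [2, 3, 5, 8],
  [2, 3, 5, 7, 9],
  [2, 3, 4, 5, 6, 7],
  [2, 5, 6],
  [2, 4, 5],
  [2, 4, 8],
  [2, 6, 8, 9],
  [2, 3, 4, 6, 7, 8, 9],
  [2, 3, 7, 8, 9],
  [2, 6, 7, 9],
  [2, 4, 7, 9],
  [2, 3, 9],
  [2, 3, 4, 6],
  [2, 3],
  [2, 3, 4, 6, 9],
  [2, 6, 7],
  [2, 4, 7],
  [2, 5, 6, 9],
  [2, 4, 5, 9],
  [2, 3, 5, 7],
  [2, 3, 4, 5, 6, 7, 9],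
  [0, 1, 2, 3, 5, 8, 9],
  [0, 1, 2, 3, 4, 5, 6, 8, 9],
  [0, 1, 2, 5, 6, 7, 8],
  [0, 1, 2, 4, 5, 7, 8, 9],
  [0, 1, 2, 3, 5, 6, 7, 8],
  [0, 1, 2, 3, 4, 5, 7, 8, 9],
  [0, 1, 2, 5, 8, 9],
  [0, 1, 2, 4, 5, 6, 8, 9],
  [0, 1, 2, 3, 9],
  [0, 1, 2, 3, 4, 6],
  [0, 1, 2, 6, 7, 9],
  [0, 1, 2, 4, 7, 9],
  [0, 1, 2, 3, 5, 8],
  [0, 1, 2, 3, 4, 5, 6, 8],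
  [0, 1, 2, 5, 6, 7, 8, 9],
  [0, 1, 2, 4, 5, 7, 8],
  [0, 1, 2, 3, 4, 7],
  [0, 1, 2, 3, 6, 7],
  [0, 1, 2, 4, 6, 9],
  [0, 1, 2],
  [0, 1, 2, 3, 5, 6, 7, 8, 9],
  [0, 1, 2, 3, 4, 5, 7, 8],
  [0, 1, 2, 5, 8],
  [0, 1, 2, 4, 5, 6, 8],
  [0, 1, 2, 3, 6, 8],
  [0, 1, 2, 3, 4, 8, 9],
  [0, 1, 2, 7, 8],
  [0, 1, 2, 4, 6, 7, 8],
  [0, 1, 2, 3],
  [0, 1, 2, 3, 4, 6, 9],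
  [0, 1, 2, 6, 7],
  [0, 1, 2, 4, 7],
  [0, 1, 2, 3, 4, 7, 9],
  [0, 1, 2, 3, 6, 7, 9],
  [0, 1, 2, 4, 6],
  [0, 1, 2, 9],
  [0, 1, 2, 3, 7, 8, 9],
  [0, 1, 2, 3, 4, 6, 7, 8, 9],
  [0, 1, 2, 6, 8, 9],
  [0, 1, 2, 4, 8],
  [0, 1, 2, 3, 4, 5],
  [0, 1, 2, 3, 5, 6],
  [0, 1, 2, 4, 5, 6, 7],
  [0, 1, 2, 5, 7, 9],
  [0, 1, 2, 3, 6, 8, 9],
  [0, 1, 2, 3, 4, 8],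
  [0, 1, 2, 7, 8, 9],
  [0, 1, 2, 4, 6, 7, 8, 9],
  [0, 1, 2, 3, 5, 7, 9],
  [0, 1, 2, 3, 4, 5, 6, 7],
  [0, 1, 2, 5, 6],
  [0, 1, 2, 4, 5],
  [0, 1, 2, 3, 7, 8],
  [0, 1, 2, 3, 4, 6, 7, 8],
  [0, 1, 2, 6, 8],
  [0, 1, 2, 4, 8, 9],
  [0, 1, 2, 3, 4, 5, 9],
  [0, 1, 2, 3, 5, 6, 9],
  [0, 1, 2, 4, 5, 6, 7, 9],
  [0, 1, 2, 5, 7],
  [2, 3, 5, 6, 7, 8],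
  [2, 3, 4, 5, 7, 8, 9],
  [2, 5, 8, 9],
  [2, 4, 5, 6, 8, 9],
  [2, 3, 5, 6, 7, 8, 9],
  [2, 3, 4, 5, 7, 8],
  [2, 5, 8],
  [2, 4, 5, 6, 8],
  [0, 1, 2, 3, 5, 7],
  [0, 1, 2, 3, 4, 5, 6, 7, 9],
  [0, 1, 2, 5, 6, 9],
  [0, 1, 2, 4, 5, 9],
  [2, 5, 7, 9],
  [2, 4, 5, 6, 7],
  [2, 3, 5, 6],
  [2, 3, 4, 5],
  [2, 5, 7],
  [2, 4, 5, 6, 7, 9],
  [2, 3, 5, 6, 9],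
  [2, 3, 4, 5, 9],
  [0, 2, 6, 9],
  [0, 2, 4],
  [0, 2, 3, 7, 9],
  [0, 2, 3, 4, 6, 7, 9],
  [0, 2, 6],
  [0, 2, 4, 9],
  [0, 2, 3, 7],
  [0, 2, 3, 4, 6, 7],
  [0, 2, 5, 7, 8, 9],
  [0, 2, 4, 5, 6, 7, 8],
  [0, 2, 3, 5, 6, 8],
  [0, 2, 3, 4, 5, 8],
  [0, 2, 3, 8],
  [0, 2, 3, 4, 6, 8, 9],
  [0, 2, 6, 7, 8],
  [0, 2, 4, 7, 8],
  [0, 2, 3, 5, 6, 7],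
  [0, 2, 3, 4, 5, 7, 9],
  [0, 2, 5, 9],
  [0, 2, 4, 5, 6, 9],
  [0, 2, 4, 5, 6, 7, 8, 9],
  [0, 2, 5, 7, 8],
  [0, 2, 3, 4, 5, 8, 9],
  [0, 2, 3, 5, 6, 8, 9],
  [0, 2, 3, 8, 9],
  [0, 2, 3, 4, 6, 8],
  [0, 2, 6, 7, 8, 9],
  [0, 2, 4, 7, 8, 9],
  [0, 2, 4, 5, 6],
  [0, 2, 5],
  [0, 2, 3, 4, 5, 7],
  [0, 2, 3, 5, 6, 7, 9],
  [0, 2, 8, 9],
  [0, 2, 4, 6, 8],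
  [0, 2, 3, 6, 7, 8, 9],
  [0, 2, 3, 4, 7, 8, 9],
  [0, 2, 4, 6, 8, 9],
  [0, 2, 8],
  [0, 2, 3, 4, 7, 8],
  [0, 2, 3, 6, 7, 8],
  [0, 2, 4, 6, 7],
  [0, 2, 7],
  [0, 2, 3, 4, 9],
  [0, 2, 3, 6],
  [0, 2, 3, 6, 9],
  [0, 2, 3, 4],
  [0, 2, 7, 9],
  [0, 2, 4, 6, 7, 9],
  [1, 2, 4, 8, 9],
  [1, 2, 6, 8],
  [1, 2, 3, 4, 6, 7, 8],
  [1, 2, 3, 7, 8],
  [1, 2, 5, 7],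
  [1, 2, 4, 5, 6, 7, 9],
  [1, 2, 3, 5, 6, 9],
  [1, 2, 3, 4, 5, 9],
  [1, 2, 4, 5],
  [1, 2, 5, 6],
  [1, 2, 3, 4, 5, 6, 7],
  [1, 2, 3, 5, 7, 9],
  [1, 2, 4, 8],
  [1, 2, 6, 8, 9],
  [1, 2, 3, 4, 6, 7, 8, 9],
  [1, 2, 3, 7, 8, 9],
  [1, 2, 4, 6, 7, 8],
  [1, 2, 7, 8],
  [1, 2, 3, 4, 8, 9],
  [1, 2, 3, 6, 8],
  [1, 2, 5, 7, 9],
  [1, 2, 4, 5, 6, 7],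
  [1, 2, 3, 5, 6],
  [1, 2, 3, 4, 5],
  [1, 2, 4, 5, 6, 8, 9],
  [1, 2, 5, 8, 9],
  [1, 2, 3, 4, 5, 7, 8, 9],
  [1, 2, 3, 5, 6, 7, 8],
  [1, 2, 4, 5, 9],
  [1, 2, 5, 6, 9],
  [1, 2, 3, 4, 5, 6, 7, 9],
  [1, 2, 3, 5, 7],
  [1, 2, 4, 6, 7, 8, 9],
  [1, 2, 7, 8, 9],
  [1, 2, 3, 4, 8],
  [1, 2, 3, 6, 8, 9],
  [1, 2, 4, 7, 9],
  [1, 2, 6, 7, 9],
  [1, 2, 3, 4, 6],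
  [1, 2, 3, 9],
  [1, 2, 9],
  [1, 2, 4, 6],
  [1, 2, 3, 6, 7, 9],
  [1, 2, 3, 4, 7, 9],
  [1, 2, 4, 5, 6, 8],
  [1, 2, 5, 8],
  [1, 2, 3, 4, 5, 7, 8],
  [1, 2, 3, 5, 6, 7, 8, 9],
  [0, 2, 3, 5, 7, 8],
  [0, 2, 3, 4, 5, 6, 7, 8, 9],
  [0, 2, 5, 6, 8, 9],
  [0, 2, 4, 5, 8, 9],
  [1, 2, 4, 5, 7, 8],
  [1, 2, 5, 6, 7, 8, 9],
  [1, 2, 3, 4, 5, 6, 8],
  [1, 2, 3, 5, 8],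
  [1, 2, 4, 7],
  [1, 2, 6, 7],
  [1, 2, 3, 4, 6, 9],
  [1, 2, 3],
  [1, 2],
  [1, 2, 4, 6, 9],
  [1, 2, 3, 6, 7],
  [1, 2, 3, 4, 7],
  [0, 2, 3, 5, 7, 8, 9],
  [0, 2, 3, 4, 5, 6, 7, 8],
  [0, 2, 5, 6, 8],
  [0, 2, 4, 5, 8],
  [1, 2, 4, 5, 7, 8, 9],
  [1, 2, 5, 6, 7, 8],
  [1, 2, 3, 4, 5, 6, 8, 9],
  [1, 2, 3, 5, 8, 9],
  [0, 2, 5, 6, 7],
  [0, 2, 4, 5, 7, 9],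
  [0, 2, 3, 5, 9],
  [0, 2, 3, 4, 5, 6, 9],
  [0, 2, 5, 6, 7, 9],
  [0, 2, 4, 5, 7],
  [0, 2, 3, 5],
  [0, 2, 3, 4, 5, 6],
  [2, 3, 4, 7, 8, 9],
  [2, 3, 6, 7, 8, 9],
  [2, 4, 6, 8],
  [2, 8, 9],
  [2, 3, 4, 7, 8],
  [2, 3, 6, 7, 8],
  [2, 4, 6, 8, 9],
  [2, 8],
  [2, 4, 6, 7],
  [2, 7],
  [2, 3, 4, 9],
  [2, 3, 6],
  [2, 5, 6, 7, 9],
  [2, 4, 5, 7],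
  [2, 3, 5],
  [2, 3, 4, 5, 6],
  [2, 3, 4, 6, 7, 9],
  [2, 3, 7, 9],
  [2, 4],
  [2, 6, 9],
  [2, 4, 6, 7, 9],
  [2, 7, 9],
  [2, 3, 4],
  [2, 3, 6, 9],
  [2, 3, 4, 5, 6, 9],
  [2, 3, 5, 9],
  [2, 4, 5, 7, 9],
  [2, 5, 6, 7],
  [2, 4, 5, 8, 9],
  [2, 5, 6, 8, 9],
  [2, 3, 4, 5, 6, 7, 8, 9],
  [2, 3, 5, 7, 8],
  [2, 6],
  [2, 4, 9],
  [2, 3, 7],
  [2, 3, 4, 6, 7],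
  [2, 4, 7, 8],
  [2, 6, 7, 8],
  [2, 3, 4, 6, 8, 9],
  [2, 3, 8],
  [2, 3, 4, 6, 8],
  [2, 3, 8, 9],
  [2, 4, 7, 8, 9],
  [2, 6, 7, 8, 9],
  [2, 3, 4, 5, 6, 7, 8],
  [2, 3, 5, 7, 8, 9],
  [2, 4, 5, 8],
  [2, 5, 6, 8],
  [0, 1, 2, 4, 5, 7],
  [0, 1, 2, 5, 6, 7, 9],
  [0, 1, 2, 3, 4, 5, 6],
  [0, 1, 2, 3, 5],
  [0, 1, 2, 4, 5, 6],
  [0, 1, 2, 5],
  [0, 1, 2, 3, 4, 5, 7],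
  [0, 1, 2, 3, 5, 6, 7, 9],
  [0, 1, 2, 6, 7, 8],
  [0, 1, 2, 4, 7, 8],
  [0, 1, 2, 3, 8],
  [0, 1, 2, 3, 4, 6, 8, 9],
  [0, 1, 2, 4, 5, 7, 9],
  [0, 1, 2, 5, 6, 7],
  [0, 1, 2, 3, 4, 5, 6, 9],
  [0, 1, 2, 3, 5, 9],
  [0, 1, 2, 8, 9],
  [0, 1, 2, 4, 6, 8],
  [0, 1, 2, 3, 6, 7, 8, 9],
  [0, 1, 2, 3, 4, 7, 8, 9],
  [0, 1, 2, 4, 5, 6, 9],
  [0, 1, 2, 5, 9],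
  [0, 1, 2, 3, 4, 5, 7, 9],
  [0, 1, 2, 3, 5, 6, 7],
  [0, 1, 2, 4, 6, 7, 9],
  [0, 1, 2, 7, 9],
  [0, 1, 2, 3, 4],
  [0, 1, 2, 3, 6, 9],
  [0, 1, 2, 6, 7, 8, 9],
  [0, 1, 2, 4, 7, 8, 9],
  [0, 1, 2, 3, 8, 9],
  [0, 1, 2, 3, 4, 6, 8],
  [0, 1, 2, 4, 6, 8, 9],
  [0, 1, 2, 8],
  [0, 1, 2, 3, 4, 7, 8],
  [0, 1, 2, 3, 6, 7, 8],
  [0, 1, 2, 4, 9],
  [0, 1, 2, 6],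
  [0, 1, 2, 3, 4, 6, 7],
  [0, 1, 2, 3, 7],
  [0, 1, 2, 4, 5, 6, 7, 8, 9],
  [0, 1, 2, 5, 7, 8],
  [0, 1, 2, 3, 4, 5, 8, 9],
  [0, 1, 2, 3, 5, 6, 8, 9],
  [0, 1, 2, 4, 6, 7],
  [0, 1, 2, 7],
  [0, 1, 2, 3, 4, 9],
  [0, 1, 2, 3, 6],
  [0, 1, 2, 5, 6, 8, 9],
  [0, 1, 2, 4, 5, 8, 9],
  [0, 1, 2, 3, 5, 7, 8],
  [0, 1, 2, 3, 4, 5, 6, 7, 8, 9],
  [0, 1, 2, 4],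
  [0, 1, 2, 6, 9],
  [0, 1, 2, 3, 4, 6, 7, 9],
  [0, 1, 2, 3, 7, 9],
  [0, 1, 2, 5, 7, 8, 9],
  [0, 1, 2, 4, 5, 6, 7, 8],
  [0, 1, 2, 3, 5, 6, 8],
  [0, 1, 2, 3, 4, 5, 8],
  [2, 4, 5, 6],
  [2, 5],
  [2, 3, 4, 5, 7],
  [2, 3, 5, 6, 7, 9],
  [2, 4, 5, 6, 9],
  [2, 5, 9],
  [2, 3, 4, 5, 7, 9],
  [2, 3, 5, 6, 7],
  [0, 1, 2, 5, 6, 8],
  [0, 1, 2, 4, 5, 8],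
  [0, 1, 2, 3, 5, 7, 8, 9],
  [0, 1, 2, 3, 4, 5, 6, 7, 8],
  [2, 3, 4, 5, 8, 9],
  [2, 3, 5, 6, 8, 9],
  [2, 4, 5, 6, 7, 8, 9],
  [2, 5, 7, 8],
  [2, 3, 4, 5, 8],
  [2, 3, 5, 6, 8],
  [2, 4, 5, 6, 7, 8],
  [2, 5, 7, 8, 9]]

/-- The collector for 3. -/
def certThree : CollectP.Cert where
  n := 3
  p := 3
  fuel := 3000
  facts := [(0, [0, 0, 0], []),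
    (0, [1, 0], [0, 1, 2, 2]),
    (0, [2, 0], [0, 2]),
    (0, [1, 1, 1], []),
    (0, [2, 1], [1, 2]),
    (0, [2, 2, 2], []),
    (1, [0, 2, 2], [0, 0, 1, 1]),
    (1, [1, 2], [0, 0, 1]),
    (1, [2], [2])]
  eqs := [.ins [1, 1] [1, 0] [],
    .conj [6, 6, 6] [],
    .conj [7, 7, 7] [],
    .conj [8, 6] [6, 8],
    .conj [8, 7] [7, 8]]
  s := [[0, 0, 0, 0, 0, 0, 0, 0, 0],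
    [0, 0, 0, 0, 0, 0, 0, 0, 0],
    [0, 2, 0, 0, 0, 0, 0, 0, 0]]
  combos := [[(2, 2), (3, 1), (4, 2)],
    [],
    [(4, 2)],
    [(0, 2), (1, 2), (2, 2), (3, 2), (4, 2)],
    [(3, 2), (4, 2)],
    [(0, 1)]]

/-- The words of the Sylow group. -/
def gwThree : List (List ℕ) := [[5, 4, 1, 2, 3, 1, 2, 3, 1, 2, 1, 3, 2, 1, 3, 2, 6, 5, 3, 2, 1, 3, 6],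
  [6, 3, 2, 1, 5, 6, 3, 2, 3, 2, 6, 5, 3, 6],
  [2, 3, 5, 2, 3, 2, 3, 6, 1, 2, 3, 0, 1, 2, 3, 5, 6, 3, 2, 1, 3, 2, 3, 2, 6, 3, 2]]

/-- The words of the fusing elements. -/
def twThree : List (List ℕ) := [[],
  [6, 2, 3, 5, 4, 3, 2, 3, 5, 2, 3, 1, 2, 3, 2, 4, 3, 2, 1, 6, 3, 2, 4, 3, 2, 5]]

/-- The elements, by increasing codes. -/
def listThree : List (List ℕ) := [[],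
  [0, 2, 2],
  [0, 0, 1],
  [0, 1, 1],
  [1, 1, 2, 2],
  [0, 1, 1, 2],
  [0, 1, 2],
  [1, 1],
  [0, 0, 1, 1, 2],
  [0, 0, 2, 2],
  [0, 1, 1, 2, 2],
  [1, 2],
  [2],
  [0],
  [0, 0],
  [0, 0, 1, 2],
  [0, 0, 1, 2, 2],
  [1],
  [0, 0, 1, 1],
  [1, 1, 2],
  [2, 2],
  [0, 0, 1, 1, 2, 2],
  [0, 0, 2],
  [0, 1, 2, 2],
  [0, 2],
  [1, 2, 2],
  [0, 1]]

/-- The collector for 5. -/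
def certFive : CollectP.Cert where
  n := 2
  p := 5
  fuel := 3000
  facts := [(0, [0, 0, 0, 0, 0], []),
    (0, [1, 0], [0, 1]),
    (0, [1, 1, 1, 1, 1], []),
    (1, [0], [0]),
    (1, [1], [0, 1, 1, 1, 1]),
    (2, [0], [0, 0])]
  eqs := [.conj [4, 3] [3, 4],
    .conj [4, 4, 4, 4, 4] [],
    .conj [5, 5, 5, 5, 5] []]
  s := [[0, 0, 0, 0, 0, 0],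
    [0, 0, 0, 0, 0, 0]]
  combos := [[(2, 1)],
    [(0, 2)],
    [(1, 2), (2, 3)]]

/-- The words of the Sylow group. -/
def gwFive : List (List ℕ) := [[1, 6, 3, 2, 5, 3, 2, 1, 3, 4, 5],
  [5, 1, 2, 3, 6, 4, 3, 0, 2, 1, 4, 3, 5, 3, 2, 4, 3, 2, 3, 4, 6, 3]]

/-- The words of the fusing elements. -/
def twFive : List (List ℕ) := [[],
  [5, 4, 3, 1, 0, 2, 3, 2, 1, 6, 5, 3, 2, 3, 2, 3, 4, 6, 3],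
  [0, 1, 2, 6, 3, 5, 3, 2, 3, 2, 1, 3, 4, 6]]

/-- The elements, by increasing codes. -/
def listFive : List (List ℕ) := [[],
  [0, 0, 1],
  [0],
  [0, 0, 0, 0],
  [0, 0, 0, 0, 1],
  [0, 0, 0],
  [0, 0, 0, 0, 1, 1],
  [0, 0],
  [0, 1],
  [0, 0, 1, 1, 1, 1],
  [0, 0, 0, 0, 1, 1, 1],
  [0, 0, 0, 1, 1, 1, 1],
  [0, 1, 1, 1, 1],
  [0, 0, 0, 1, 1],
  [0, 0, 1, 1, 1],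
  [0, 0, 0, 1],
  [0, 0, 0, 0, 1, 1, 1, 1],
  [0, 1, 1],
  [1, 1],
  [1],
  [1, 1, 1, 1],
  [0, 0, 0, 1, 1, 1],
  [0, 0, 1, 1],
  [1, 1, 1],
  [0, 1, 1, 1]]

/-- The collector for 7. -/
def certSeven : CollectP.Cert where
  n := 3
  p := 7
  fuel := 3000
  facts := [(0, [0, 0, 0, 0, 0, 0, 0], []),
    (0, [1, 0], [0, 1, 2, 2, 2, 2, 2, 2]),
    (0, [2, 0], [0, 2]),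
    (0, [1, 1, 1, 1, 1, 1, 1], []),
    (0, [2, 1], [1, 2]),
    (0, [2, 2, 2, 2, 2, 2, 2], []),
    (1, [0, 1, 1], [0, 0, 1, 1]),
    (1, [1, 2, 2, 2], [1, 1, 1, 1, 2, 2, 2]),
    (1, [2], [2])]
  eqs := [.ins [1, 1, 1, 1, 1, 1] [1, 0] [],
    .conj [6, 6, 6, 6, 6, 6, 6] [],
    .conj [7, 7, 7, 7, 7, 7, 7] [],
    .conj [8, 6] [6, 8],
    .conj [8, 7] [7, 8]]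
  s := [[0, 0, 0, 0, 0, 0, 0, 0, 0],
    [0, 0, 0, 0, 0, 0, 0, 0, 0],
    [0, 6, 0, 0, 0, 0, 0, 0, 0]]
  combos := [[(0, 3), (1, 1)],
    [],
    [(3, 1)],
    [(2, 5)],
    [(4, 5)],
    [(0, 1)]]

/-- The words of the Sylow group. -/
def gwSeven : List (List ℕ) := [[3, 5, 6, 3, 1, 2, 3, 4, 0, 1, 2, 3, 2, 6, 3, 2, 1, 3, 2, 4, 3, 5, 3, 2, 3, 4],
  [2, 3, 6, 3, 5, 3, 2, 3, 1, 2, 3, 5, 4, 3, 2, 1, 6, 3, 2, 1, 0, 3, 2, 3, 4, 6, 3, 2],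
  [5, 3, 4, 1, 2, 3, 2, 1, 2, 5, 3, 2, 4, 3, 2, 1, 3, 6, 3, 2, 1, 5]]

/-- The words of the fusing elements. -/
def twSeven : List (List ℕ) := [[],
  [6, 4, 2, 3, 1, 2, 3, 4, 1, 2, 3, 6, 5, 0, 3, 2, 1, 6, 3, 2, 3, 6, 5, 3, 2, 4, 3, 5, 0]]

/-- The elements, by increasing codes. -/
def listSeven : List (List ℕ) := [[],
  [0, 0, 0, 2, 2, 2, 2, 2, 2],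
  [0, 0, 0, 0, 0, 1, 1, 1, 2, 2, 2, 2, 2, 2],
  [0, 0, 1, 1, 1, 1],
  [1, 2, 2, 2],
  [0, 0, 0, 1, 1, 1, 1, 1, 1, 2, 2, 2],
  [0, 0, 0, 1, 1, 1, 2, 2, 2],
  [0, 1, 1],
  [0, 1, 1, 1, 2, 2, 2],
  [0, 0, 0, 0, 1, 2, 2, 2, 2, 2, 2],
  [0, 0, 0, 0, 1, 1, 1, 1, 1, 2, 2, 2, 2, 2, 2],
  [0, 0, 0, 0, 0, 1, 1, 1, 1, 2, 2],
  [0, 0, 1],
  [0, 0, 0, 1, 1, 1, 2, 2, 2, 2, 2],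
  [0, 1, 2],
  [0, 0, 0, 0, 0, 1, 1, 1, 1, 1, 2],
  [0, 0, 1, 1, 1, 1, 1, 1],
  [1, 1, 2, 2],
  [0, 0, 0, 0, 0, 1, 1, 1, 2, 2, 2, 2, 2],
  [0, 0, 0, 0, 1, 1],
  [0, 0, 0, 0, 1, 1, 1, 1, 1, 1, 2, 2, 2],
  [0, 0, 0, 0, 0, 1, 2, 2, 2, 2, 2],
  [0, 0, 0, 0, 0, 0, 1, 1, 1, 1],
  [0, 0, 0, 0, 0, 1, 1, 1, 1, 2],
  [0, 0, 0, 0, 0, 0, 2, 2, 2, 2],
  [0, 0],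
  [0, 0, 0, 0, 0, 1, 1, 1, 1, 1, 2, 2, 2, 2, 2],
  [0, 0, 0, 0, 0, 0, 1, 1, 2, 2, 2, 2, 2],
  [0, 0, 0, 1, 1, 1, 1, 2],
  [0, 0, 0, 0, 0, 0, 1, 1, 1, 1, 1, 2, 2, 2, 2, 2],
  [1, 1, 1],
  [0, 1, 1, 1, 1, 1, 1, 2, 2],
  [0, 0, 0, 1, 1, 1, 1, 1, 1, 2, 2, 2, 2],
  [0, 0, 0, 0, 2, 2],
  [1, 1, 1, 1, 1, 2, 2],
  [0, 0, 0, 1, 1, 1, 1, 1, 2, 2, 2, 2],
  [0, 0, 0, 0, 0, 0, 1, 1, 1, 2, 2, 2, 2, 2],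
  [0, 0, 1, 1, 1, 2, 2, 2, 2, 2],
  [0, 0, 1, 1, 2, 2, 2, 2],
  [0, 0, 0, 1, 2, 2, 2, 2, 2, 2],
  [0, 0, 1, 1, 1, 1, 1, 2, 2, 2, 2],
  [0, 0, 0, 1, 1, 1, 1, 2, 2, 2, 2, 2],
  [1, 1, 1, 1, 1, 2, 2, 2],
  [0, 1, 1, 1, 2, 2],
  [0, 0, 0, 0, 0, 0, 1, 1, 1, 1, 1, 1, 2, 2, 2, 2, 2],
  [0, 0, 0, 0, 1],
  [0, 0, 0, 1, 2, 2, 2, 2, 2],
  [0, 1, 1, 1, 1, 1, 2, 2, 2, 2, 2],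
  [0, 2, 2, 2, 2, 2],
  [0, 0, 0, 0, 0, 2, 2, 2, 2, 2],
  [0, 0, 0, 0, 1, 1, 1, 1, 1, 2, 2, 2, 2],
  [0, 0, 1, 1, 1, 1, 2, 2, 2],
  [1, 1, 1, 1, 1, 1, 2, 2, 2, 2, 2],
  [0, 1, 1, 1, 1, 1, 2, 2, 2, 2, 2, 2],
  [0, 0, 0, 1, 1, 2, 2],
  [0, 0, 0, 2, 2, 2],
  [0, 0, 0, 0, 0, 0],
  [0, 0, 2],
  [0, 0, 0, 0, 0, 0, 1, 1, 1, 1, 1, 1, 2],
  [0, 0, 0, 0, 0, 1, 1, 1, 1, 1, 1, 2, 2, 2, 2, 2, 2],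
  [0, 0, 0, 0, 1, 1, 1, 2, 2, 2, 2, 2, 2],
  [1, 2, 2, 2, 2],
  [1, 1, 1, 2, 2, 2],
  [0, 0, 0, 0, 1, 1, 1, 1],
  [0, 0, 0, 0, 1, 1, 1, 2, 2],
  [0, 0, 1, 1, 1, 1, 1, 1, 2, 2, 2, 2, 2, 2],
  [0, 0, 0, 0, 0, 0, 1, 1, 2, 2],
  [0, 0, 1, 1, 1, 1, 1, 2],
  [0, 0, 0, 0, 0, 1, 1, 1, 1, 1, 2, 2, 2, 2],
  [0, 0, 0],
  [1, 1, 1, 2],
  [1, 1, 1, 1, 1, 2],
  [0, 0, 2, 2, 2],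
  [0, 0, 0, 1, 1, 1, 1, 1, 1, 2],
  [0, 0, 0, 0, 0, 1, 2, 2, 2, 2, 2, 2],
  [0, 0, 0, 0, 0, 0, 1, 1, 2, 2, 2, 2],
  [0, 0, 0, 1, 1, 1, 1, 1, 1, 2, 2, 2, 2, 2],
  [0, 2],
  [0, 0, 0, 0, 1, 1, 1, 1, 1, 2, 2, 2],
  [1, 1, 1, 1, 1, 2, 2, 2, 2],
  [0, 1, 1, 1, 1, 1, 1],
  [0, 0, 0, 0, 0, 1, 1, 1, 2, 2, 2, 2],
  [0, 0, 1, 1, 2, 2, 2, 2, 2, 2],
  [0, 0, 0, 1, 1, 1, 1, 2, 2, 2, 2],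
  [1, 1, 1, 1, 1, 1, 2],
  [0, 0, 1, 1, 1, 1, 1, 1, 2, 2],
  [0, 1, 1, 2, 2],
  [0, 0, 0, 0, 1, 2, 2, 2, 2, 2],
  [0, 0, 0, 0, 0, 1, 1, 1, 1, 2, 2, 2, 2, 2],
  [2, 2, 2],
  [0, 0, 0, 0, 1, 1, 2, 2, 2],
  [0, 0, 0, 0, 1, 1, 1, 1, 2, 2, 2, 2, 2],
  [1, 1, 1, 1, 2, 2],
  [0, 0, 0, 0, 0, 1, 1, 1, 1, 1, 1, 2, 2, 2],
  [0, 0, 0, 0, 1, 2, 2, 2],
  [0, 0, 1, 1, 1, 1, 1, 2, 2, 2, 2, 2],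
  [0, 1, 1, 1, 1, 1, 1, 2, 2, 2, 2],
  [0, 0, 0, 0, 0, 1, 1],
  [0, 0, 0, 0, 0, 0, 1, 1],
  [0, 1, 2, 2, 2, 2],
  [0, 0, 0, 0, 0, 1, 1, 2, 2, 2, 2],
  [0, 0, 0, 0, 0, 1],
  [0, 0, 1, 1, 2, 2],
  [0, 0, 1, 2, 2],
  [0, 0, 0, 1, 1, 2],
  [0, 0, 1, 1, 1, 1, 1, 2, 2, 2],
  [0, 0, 0, 2, 2, 2, 2],
  [0, 0, 0, 1, 2, 2, 2, 2],
  [0, 1, 1, 1, 1, 2, 2, 2, 2],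
  [0, 0, 0, 1, 1, 1, 1, 1, 2, 2, 2],
  [0, 0, 0, 1, 1, 2, 2, 2],
  [0, 0, 0, 0, 0, 1, 1, 1, 1, 2, 2, 2],
  [0, 0, 0, 0, 0],
  [0, 0, 0, 0, 0, 2, 2, 2, 2],
  [0, 1, 1, 1, 1, 2, 2, 2, 2, 2],
  [1, 1, 1, 1, 1, 2, 2, 2, 2, 2, 2],
  [0, 0, 0, 0, 1, 1, 1, 2, 2, 2],
  [0, 0, 0, 0, 0, 0, 1, 1, 1, 1, 1, 2, 2],
  [0, 0, 0, 0, 0, 0, 1, 1, 1, 1, 1, 2, 2, 2],
  [1, 1, 1, 1, 2, 2, 2, 2],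
  [0, 0, 0, 0, 0, 1, 1, 2, 2, 2],
  [0, 0, 0, 1, 1, 1, 1, 1, 2],
  [2, 2, 2, 2, 2, 2],
  [0, 0, 0, 0, 0, 0, 1, 1, 1, 1, 2, 2, 2, 2],
  [0, 0, 0, 1, 1],
  [0, 0, 0, 0, 0, 2, 2, 2, 2, 2, 2],
  [0, 0, 1, 2, 2, 2],
  [1, 1, 1, 1],
  [0, 0, 0, 0, 0, 0, 1, 1, 1, 1, 1, 1],
  [0, 1, 1, 1, 2],
  [0, 0, 0, 0, 0, 0, 1, 1, 1, 1, 2],
  [0, 1, 1, 1, 2, 2, 2, 2, 2],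
  [0, 0, 0, 0, 0, 1, 1, 1, 1, 1, 1, 2, 2, 2, 2, 2],
  [0, 0, 0, 0, 2, 2, 2, 2],
  [0, 0, 0, 0, 0, 0, 1, 1, 1, 1, 1, 1, 2, 2],
  [0, 0, 0, 0, 0, 0, 1, 1, 1, 1, 1, 1, 2, 2, 2, 2],
  [1],
  [0, 0, 0, 0, 0, 1, 1, 1, 1, 1, 2, 2, 2, 2, 2, 2],
  [0, 0, 1, 1, 1, 1, 2],
  [0, 0, 0, 0, 0, 1, 1, 1, 1, 1, 1],
  [0, 1, 2, 2, 2],
  [0, 0, 0, 0, 0, 1, 2, 2, 2],
  [0, 0, 0, 0, 1, 1, 1, 1, 1, 2, 2],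
  [0, 0, 0, 1, 1, 1],
  [0, 0, 0, 1, 1, 1, 1, 1, 2, 2, 2, 2, 2, 2],
  [0, 0, 1, 1, 1, 1, 2, 2, 2, 2],
  [1, 2, 2, 2, 2, 2, 2],
  [0, 1, 1, 2, 2, 2, 2, 2, 2],
  [0, 1, 1, 1, 1, 2, 2, 2],
  [0, 1, 1, 1, 1, 1, 2, 2, 2],
  [0, 0, 0, 0, 0, 0, 1, 1, 1, 1, 1, 1, 2, 2, 2, 2, 2, 2],
  [0, 0, 1, 2, 2, 2, 2, 2],
  [0, 0, 0, 1, 1, 1, 1, 1, 1],
  [0, 0, 0, 0, 0, 0, 2, 2, 2, 2, 2],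
  [0, 0, 0, 1, 1, 1, 1, 1, 1, 2, 2, 2, 2, 2, 2],
  [0, 1, 1, 1, 1],
  [0, 0, 0, 0, 1, 1, 1, 1, 1, 1, 2, 2, 2, 2, 2, 2],
  [0, 0, 0, 0, 0, 1, 1, 1, 1, 2, 2, 2, 2],
  [0, 0, 1, 1, 1, 2, 2],
  [0, 0, 0, 0, 0, 0, 1, 1, 1, 1, 1],
  [0, 1, 1, 1, 1, 2, 2],
  [0, 0, 0, 0, 0, 1, 1, 1, 1, 1],
  [0, 0, 0, 0, 0, 1, 1, 1, 1, 1, 2, 2],
  [1, 1, 1, 1, 1, 1, 2, 2, 2, 2],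
  [0, 1, 1, 1, 1, 1, 1, 2, 2, 2],
  [0, 0, 0, 0, 0, 1, 1, 2, 2],
  [2, 2],
  [1, 1, 1, 2, 2, 2, 2],
  [0, 0, 0, 0, 1, 1, 2, 2, 2, 2, 2, 2],
  [0, 0, 0, 0, 0, 0, 1],
  [0, 2, 2, 2, 2],
  [1, 1, 1, 1, 2, 2, 2, 2, 2, 2],
  [0, 0, 0, 0, 1, 1, 1, 1, 2, 2, 2, 2],
  [0, 0, 0, 0, 0, 1, 1, 1, 1, 1, 1, 2, 2],
  [0],
  [0, 2, 2],
  [0, 1, 1, 1, 1, 1, 2, 2, 2, 2],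
  [0, 1, 1, 1, 1, 2],
  [0, 0, 0, 1, 1, 1, 1, 1],
  [0, 0, 2, 2, 2, 2, 2, 2],
  [1, 1, 1, 2, 2, 2, 2, 2, 2],
  [0, 0, 0, 0, 1, 1, 1, 1, 2],
  [0, 0, 0, 0, 0, 1, 2],
  [0, 2, 2, 2, 2, 2, 2],
  [0, 0, 0, 0, 1, 1, 1, 1, 2, 2, 2, 2, 2, 2],
  [0, 0, 0, 0, 0, 2, 2, 2],
  [0, 1, 1, 1, 1, 1, 2],
  [0, 0, 0, 0, 0, 2, 2],
  [1, 1, 2, 2, 2, 2, 2, 2],
  [0, 0, 0, 0, 0, 0, 1, 1, 1, 2],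
  [0, 0, 2, 2],
  [0, 0, 0, 0, 0, 1, 1, 2, 2, 2, 2, 2, 2],
  [1, 1, 1, 2, 2, 2, 2, 2],
  [0, 0, 1, 1],
  [1, 1, 1, 1, 1, 1, 2, 2],
  [0, 0, 1, 1, 1, 1, 1, 2, 2],
  [1, 1, 2, 2, 2],
  [0, 0, 0, 0, 0, 0, 1, 2, 2, 2],
  [0, 0, 1, 2, 2, 2, 2, 2, 2],
  [0, 0, 1, 2, 2, 2, 2],
  [0, 0, 0, 0, 2, 2, 2, 2, 2, 2],
  [0, 0, 0, 0, 1, 1, 1, 1, 1, 1, 2],
  [0, 0, 0, 0, 0, 1, 1, 1, 2, 2],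
  [0, 0, 1, 1, 1, 1, 1],
  [0, 0, 0, 0, 0, 1, 1, 1, 2, 2, 2],
  [0, 0, 0, 1, 2, 2, 2],
  [1, 1, 1, 1, 1, 2, 2, 2, 2, 2],
  [0, 0, 0, 0, 0, 1, 1, 2, 2, 2, 2, 2],
  [0, 0, 0, 0, 0, 1, 2, 2, 2, 2],
  [0, 0, 1, 1, 2, 2, 2],
  [1, 1, 1, 1, 1],
  [0, 0, 0, 0, 0, 0, 1, 1, 1, 1, 1, 2, 2, 2, 2],
  [0, 1, 1, 1],
  [0, 1, 1, 2, 2, 2],
  [0, 0, 0, 0, 0, 1, 1, 1, 2],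
  [0, 0, 1, 1, 1, 2, 2, 2, 2, 2, 2],
  [0, 0, 0, 1, 1, 1, 2],
  [0, 0, 0, 1, 1, 1, 1, 2, 2, 2, 2, 2, 2],
  [0, 0, 0, 0, 0, 0, 1, 1, 1, 2, 2, 2, 2, 2, 2],
  [1, 1, 1, 1, 2, 2, 2, 2, 2],
  [0, 0, 0, 0, 0, 0, 1, 1, 1, 1, 2, 2, 2, 2, 2, 2],
  [0, 0, 0, 1, 1, 1, 2, 2, 2, 2],
  [1, 1, 1, 1, 2],
  [0, 0, 2, 2, 2, 2, 2],
  [0, 0, 0, 0, 0, 0, 1, 1, 2, 2, 2],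
  [0, 0, 0, 0, 2, 2, 2, 2, 2],
  [0, 0, 0, 1, 2, 2],
  [0, 0, 0, 0, 0, 0, 1, 2],
  [0, 0, 0, 0, 0, 0, 1, 1, 2],
  [0, 1, 1, 1, 1, 2, 2, 2, 2, 2, 2],
  [0, 0, 0, 1, 1, 2, 2, 2, 2, 2],
  [0, 0, 1, 1, 1, 1, 1, 1, 2, 2, 2],
  [0, 0, 0, 0, 1, 1, 1, 2, 2, 2, 2],
  [0, 0, 0, 0, 1, 1, 1],
  [0, 0, 1, 1, 1, 1, 1, 1, 2, 2, 2, 2],
  [0, 1, 1, 1, 1, 1, 1, 2, 2, 2, 2, 2, 2],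
  [0, 0, 0, 2, 2, 2, 2, 2],
  [0, 0, 0, 0, 0, 1, 1, 1, 1, 1, 1, 2, 2, 2, 2],
  [0, 0, 0, 0, 0, 1, 1, 1, 1, 2, 2, 2, 2, 2, 2],
  [0, 1, 2, 2],
  [1, 1, 2, 2, 2, 2, 2],
  [0, 0, 0, 0, 0, 0, 1, 2, 2, 2, 2],
  [0, 0, 0, 0, 0, 2],
  [0, 1],
  [0, 0, 0, 0, 0, 0, 2],
  [0, 0, 0, 0, 0, 1, 1, 1, 1],
  [0, 0, 1, 2],
  [0, 0, 0, 0, 0, 0, 1, 1, 1, 2, 2],
  [1, 1],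
  [0, 0, 0, 1, 2],
  [0, 0, 0, 0, 0, 1, 1, 1],
  [0, 0, 1, 1, 1, 1, 2, 2, 2, 2, 2, 2],
  [0, 0, 0, 0, 0, 0, 1, 1, 1, 1, 2, 2, 2, 2, 2],
  [0, 0, 0, 0, 1, 1, 1, 1, 1, 1, 2, 2],
  [2],
  [0, 0, 1, 1, 2],
  [0, 0, 0, 1, 1, 1, 1],
  [0, 0, 0, 0, 0, 0, 1, 2, 2],
  [0, 0, 0, 0, 2, 2, 2],
  [0, 0, 0, 0, 1, 1, 2, 2, 2, 2, 2],
  [0, 0, 0, 0, 0, 0, 1, 1, 1, 1, 1, 2, 2, 2, 2, 2, 2],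
  [0, 1, 1, 1, 2, 2, 2, 2, 2, 2],
  [0, 0, 0, 0, 0, 1, 1, 2],
  [0, 0, 0, 1],
  [0, 0, 1, 1, 1],
  [0, 0, 0, 0],
  [0, 0, 0, 0, 1, 2],
  [0, 0, 0, 1, 1, 1, 1, 2, 2],
  [0, 0, 1, 1, 1, 2, 2, 2],
  [0, 0, 0, 1, 1, 2, 2, 2, 2, 2, 2],
  [0, 0, 0, 0, 2],
  [0, 0, 0, 2, 2],
  [1, 1, 1, 2, 2],
  [0, 1, 1, 2],
  [1, 1, 2],
  [0, 0, 0, 1, 1, 1, 1, 1, 1, 2, 2],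
  [1, 1, 1, 1, 1, 1, 2, 2, 2, 2, 2, 2],
  [0, 0, 0, 0, 0, 0, 1, 2, 2, 2, 2, 2],
  [0, 0, 1, 1, 1, 1, 2, 2, 2, 2, 2],
  [0, 0, 0, 0, 0, 0, 1, 1, 1],
  [0, 1, 1, 1, 1, 1],
  [1, 1, 2, 2, 2, 2],
  [0, 0, 1, 1, 1, 1, 1, 1, 2],
  [0, 0, 0, 0, 0, 1, 1, 1, 1, 1, 2, 2, 2],
  [0, 0, 0, 1, 1, 1, 1, 1, 2, 2],
  [0, 0, 0, 0, 0, 1, 1, 1, 1, 1, 1, 2],
  [0, 0, 0, 1, 1, 2, 2, 2, 2],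
  [0, 1, 2, 2, 2, 2, 2],
  [0, 0, 0, 0, 0, 0, 1, 1, 1, 2, 2, 2, 2],
  [0, 0, 0, 1, 1, 1, 1, 2, 2, 2],
  [0, 1, 1, 1, 1, 1, 2, 2],
  [0, 0, 1, 1, 1, 2, 2, 2, 2],
  [0, 0, 0, 2],
  [0, 0, 2, 2, 2, 2],
  [1, 2, 2, 2, 2, 2],
  [0, 0, 0, 0, 1, 1, 1, 1, 1],
  [0, 0, 0, 0, 1, 1, 1, 1, 1, 1],
  [0, 0, 0, 0, 1, 1, 1, 1, 1, 2],
  [0, 0, 0, 0, 1, 2, 2, 2, 2],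
  [0, 0, 0, 0, 0, 0, 1, 1, 1, 1, 1, 1, 2, 2, 2],
  [0, 0, 0, 0, 0, 1, 2, 2],
  [0, 0, 0, 0, 1, 1, 2, 2],
  [1, 2],
  [0, 0, 0, 0, 1, 1, 1, 2],
  [0, 0, 0, 0, 1, 1, 1, 1, 1, 1, 2, 2, 2, 2],
  [2, 2, 2, 2],
  [0, 0, 0, 0, 1, 1, 1, 1, 1, 2, 2, 2, 2, 2],
  [2, 2, 2, 2, 2],
  [1, 1, 1, 1, 2, 2, 2],
  [0, 2, 2, 2],
  [0, 1, 1, 2, 2, 2, 2],
  [1, 1, 1, 1, 1, 1],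
  [0, 0, 0, 0, 0, 0, 1, 1, 1, 1, 1, 2],
  [0, 0, 0, 0, 1, 2, 2],
  [0, 0, 0, 0, 0, 0, 1, 2, 2, 2, 2, 2, 2],
  [1, 1, 1, 1, 1, 1, 2, 2, 2],
  [0, 1, 1, 1, 1, 1, 1, 2],
  [0, 0, 0, 0, 0, 0, 2, 2, 2],
  [0, 0, 1, 1, 1, 1, 1, 1, 2, 2, 2, 2, 2],
  [0, 0, 0, 0, 0, 0, 2, 2, 2, 2, 2, 2],
  [0, 0, 0, 0, 1, 1, 1, 1, 2, 2, 2],
  [0, 0, 0, 0, 1, 1, 1, 2, 2, 2, 2, 2],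
  [0, 1, 1, 2, 2, 2, 2, 2],
  [0, 1, 2, 2, 2, 2, 2, 2],
  [0, 0, 0, 0, 0, 0, 2, 2],
  [0, 0, 0, 1, 1, 1, 2, 2, 2, 2, 2, 2],
  [0, 0, 0, 0, 0, 0, 1, 1, 1, 2, 2, 2],
  [0, 0, 1, 1, 1, 2],
  [0, 0, 0, 0, 0, 0, 1, 1, 1, 1, 2, 2],
  [0, 0, 1, 1, 1, 1, 1, 2, 2, 2, 2, 2, 2],
  [0, 0, 1, 1, 2, 2, 2, 2, 2],
  [0, 1, 1, 1, 2, 2, 2, 2],
  [0, 1, 1, 1, 1, 1, 1, 2, 2, 2, 2, 2],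
  [0, 0, 0, 0, 0, 0, 1, 1, 2, 2, 2, 2, 2, 2],
  [1, 2, 2],
  [0, 0, 0, 1, 1, 1, 1, 1, 2, 2, 2, 2, 2],
  [0, 0, 0, 0, 1, 1, 1, 1, 2, 2],
  [0, 0, 0, 0, 1, 1, 2, 2, 2, 2],
  [0, 0, 0, 0, 0, 0, 1, 1, 1, 1, 2, 2, 2],
  [0, 0, 0, 0, 1, 1, 1, 1, 1, 1, 2, 2, 2, 2, 2],
  [0, 0, 0, 0, 1, 1, 2],
  [0, 0, 0, 1, 1, 1, 2, 2],
  [0, 0, 1, 1, 1, 1, 2, 2]]

/-- An element of order seventeen. -/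
def wSeventeen : List ℕ := [5, 6, 3, 2, 1, 3, 2, 6, 3, 5, 6, 3, 4]

end CfsgLib.HeMult
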