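/-
Kernel checks of the Sylow collector data of the Held group.
-/
import Cfsg.Agent.Lib.HeMult.Basic
import Cfsg.Agent.Lib.HeMult.Data

set_option autoImplicit false
set_option maxRecDepth 1000000

namespace CfsgLib.HeMult

theorem certTwo_ok : certTwo.check = true := by decide +kernel

theorem factsTwo_ok : okFacts gwTwo twTwo certTwo.facts = true := by decide +kernel

theorem listTwo_ok : incr gwTwo certTwo.n 0 listTwo = true := by decide +kernel

theorem listTwo_len : listTwo.length = 1024 := by decide +kernel

theorem certThree_ok : certThree.check = true := by decide +kernel

theorem factsThree_ok : okFacts gwThree twThree certThree.facts = true := by decide +kernel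

theorem listThree_ok : incr gwThree certThree.n 0 listThree = true := by decide +kernel

theorem listThree_len : listThree.length = 27 := by decide +kernel

theorem certFive_ok : certFive.check = true := by decide +kernel

theorem factsFive_ok : okFacts gwFive twFive certFive.facts = true := by decide +kernel

theorem listFive_ok : incr gwFive certFive.n 0 listFive = true := by decide +kernel

theorem listFive_len : listFive.length = 25 := by decide +kernel

theorem certSeven_ok : certSeven.check = true := by decide +kernel

theorem factsSeven_ok : okFacts gwSeven twSeven certSeven.facts = true := by decide +kernel

theorem listSeven_ok : incr gwSeven certSeven.n 0 listSeven = true := by decide +kernel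

theorem listSeven_len : listSeven.length = 343 := by decide +kernel

theorem seventeen_ok : sameW ((List.replicate 17 wSeventeen).flatten) [] = true := by decide +kernel

theorem seventeen_ne : Nat.beq (CfsgLib.HeCent.run1 wSeventeen 0) 0 = false := by decide +kernel

end CfsgLib.HeMult
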