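/-
The Schur multiplier of the Held group is trivial.
-/
import Cfsg.Agent.Lib.HeMult.Checks
import Cfsg.Agent.Lib.PermChain.Schur
import Cfsg.Agent.Lib.SchurSmall

set_option autoImplicit false

namespace CfsgLib.HeMult

open CfsgLib.CosetEnum CfsgLib.HeCent CfsgLib.StemSylow

theorem seventeen : el wSeventeen ^ 17 = 1 ∧ el wSeventeen ≠ 1 := by
  refine ⟨?_, fun h => ?_⟩
  · have e := el_eq_of_sameW seventeen_ok
    have key : ∀ n : ℕ, el (List.replicate n wSeventeen).flatten = el wSeventeen ^ n := by
      intro n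
      induction n with
      | zero => rfl
      | succ n ih => rw [List.replicate_succ, List.flatten_cons, el_append, ih, pow_succ]
    rw [← key]
    exact e.trans rfl
  · have hne := seventeen_ne
    have hb : ∀ b ∈ six, run1 wSeventeen b = b := fun b hb => by
      rw [← pt_el (show okWord wSeventeen = true by decide +kernel) (six_lt b hb), h, pt_one]
    simp [six] at hb
    obtain ⟨h0, h2, h1, h5, h18, h9⟩ := hb
    simp only [h0, h2, h1, h5, h18, h9, Nat.beq_refl] at hne
    exact Bool.noConfusion hne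

theorem stem_ker {Γ : Type} [Group Γ] [Finite Γ] {σ : Γ →* presHe.Grp} (hσ : Cfsg.IsStemExtension σ) :
    σ.ker = ⊥ := by
  classical
  have key : ∀ p : ℕ, p.Prime → p ∣ 4030387200 → ∀ z ∈ σ.ker, z ^ p = 1 → z = 1 := by
    intro p hp hdvd z hz hzp
    rw [show (4030387200 : ℕ) = 2 ^ 10 * 3 ^ 3 * 5 ^ 2 * 7 ^ 3 * 17 by norm_num] at hdvd
    have hq : ∀ q : ℕ, q.Prime → p ∣ q → p = q := fun q hq h => (Nat.prime_dvd_prime_iff_eq hp hq).mp h
    rcases (Nat.Prime.dvd_mul hp).mp hdvd with h | h
    · rcases (Nat.Prime.dvd_mul hp).mp h with h | h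
      · rcases (Nat.Prime.dvd_mul hp).mp h with h | h
        · rcases (Nat.Prime.dvd_mul hp).mp h with h | h
          · obtain rfl := hq 2 Nat.prime_two (hp.dvd_of_dvd_pow h)
            exact no_torsion_two certTwo certTwo_ok factsTwo_ok listTwo_ok listTwo_len (by decide) hσ hz hzp
          · obtain rfl := hq 3 Nat.prime_three (hp.dvd_of_dvd_pow h)
            exact no_torsion certThree certThree_ok Nat.prime_three factsThree_ok listThree_ok listThree_len
              (by decide) hσ hz hzp
        · obtain rfl := hq 5 Nat.prime_five (hp.dvd_of_dvd_pow h)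
          exact no_torsion certFive certFive_ok Nat.prime_five factsFive_ok listFive_ok listFive_len
            (by decide) hσ hz hzp
      · obtain rfl := hq 7 (by norm_num) (hp.dvd_of_dvd_pow h)
        exact no_torsion certSeven certSeven_ok (show Nat.Prime 7 by norm_num) factsSeven_ok listSeven_ok listSeven_len
          (by decide) hσ hz hzp
    · obtain rfl := hq 17 (by norm_num) h
      refine CfsgPC.no_torsion_cyclic hp seventeen.1 seventeen.2 ?_ hσ hz hzp
      rw [card_grp]
      decide
  rw [eq_bot_iff]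
  intro z hz
  rw [Subgroup.mem_bot]
  have hi := CfsgLib.StSL.pow_index_eq_one_of_cyclic hσ (1 : presHe.Grp) hz
  have hd : orderOf z ∣ 4030387200 := by
    rw [← card_grp]
    exact (orderOf_dvd_of_pow_eq_one hi).trans (Subgroup.index_dvd_card _)
  by_contra hne
  obtain ⟨p, hp, hpd⟩ := Nat.exists_prime_and_dvd (n := orderOf z) fun h => hne (orderOf_eq_one_iff.mp h)
  have h1 : (z ^ (orderOf z / p)) ^ p = 1 := by
    rw [← pow_mul, Nat.div_mul_cancel hpd, pow_orderOf_eq_one]
  have h2 := key p hp (hpd.trans hd) _ (pow_mem hz _) h1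
  have hpos : 0 < orderOf z := orderOf_pos z
  have h3 := Nat.le_of_dvd (Nat.div_pos (Nat.le_of_dvd hpos hpd) hp.pos) (orderOf_dvd_of_pow_eq_one h2)
  exact absurd (Nat.div_lt_self hpos hp.one_lt) (not_lt.mpr h3)

theorem multiplier : Cfsg.HasCyclicSchurMultiplier presHe.Grp 1 :=
  CfsgLib.SchurSmall.trivial_multiplier fun _ _ _ _ hσ => stem_ker hσ

end CfsgLib.HeMult
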